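import Groth.Agent.CohFinite.AffinePush

/-!
# Cohomology as sections of higher direct images, linearly
-/

noncomputable section

universe u

open CategoryTheory Limits AlgebraicGeometry Opposite TopologicalSpace Groth.Agent.QCohBase

namespace Groth.Agent.CohFinite

variable {X X' : Scheme.{u}} (π : X' ⟶ X) {A : Type u} [CommRing A]

section Iso

variable [X.Over (Spec (CommRingCat.of A))]

variable (A) in
/-- An isomorphism of modules acts linearly on cohomology. -/
def hhEquiv {M N : X.Modules} (e : M ≅ N) (n : ℕ) : Coh.HH X M n ≃ₗ[A] Coh.HH X N n :=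
  { hhMap A e.hom n with
    invFun := hhMap A e.inv n
    left_inv := fun y => by
      show CategoryTheory.Sheaf.H.map _ n (CategoryTheory.Sheaf.H.map _ n y) = y
      rw [← CategoryTheory.Sheaf.H.map_comp_apply]
      exact (congrArg (fun g => CategoryTheory.Sheaf.H.map g n y) ((modAb X).mapIso e).hom_inv_id).trans
        (CategoryTheory.Sheaf.H.map_id_apply y)
    right_inv := fun y => by
      show CategoryTheory.Sheaf.H.map _ n (CategoryTheory.Sheaf.H.map _ n y) = y
      rw [← CategoryTheory.Sheaf.H.map_comp_apply]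
      exact (congrArg (fun g => CategoryTheory.Sheaf.H.map g n y) ((modAb X).mapIso e).inv_hom_id).trans
        (CategoryTheory.Sheaf.H.map_id_apply y) }

end Iso

variable [X.Over (Spec (CommRingCat.of A))] [X'.Over (Spec (CommRingCat.of A))]

omit [X.Over (Spec (CommRingCat.of A))] in
variable (A) in
/-- Dimension shifting along cosyzygies. -/
theorem nonempty_HH_cosyz (M : X'.Modules) : ∀ (k r : ℕ),
    Nonempty (Coh.HH X' (cosyz M k) (r + 1) ≃ₗ[A] Coh.HH X' M (r + k + 1))
  | 0, r => ⟨LinearEquiv.refl A _⟩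
  | k + 1, r => by
    obtain ⟨e⟩ := nonempty_HH_cosyz M k (r + 1)
    have hS := cosyzSeq_shortExact M k
    have hinj : ∀ m, Subsingleton (Coh.HH X' (cosyzSeq M k).X₂ (m + 1)) :=
      subsingleton_HH_injective _ (CompDerived.pres_injective (cosyz M k))
    have hb : Function.Bijective (hhDelta A hS (r + 1)) := by
      refine ⟨?_, hhDelta_surjective_of_subsingleton hS (r + 1) (hinj _)⟩
      rw [← LinearMap.ker_eq_bot, ← hhDelta_ker_eq_range hS]
      refine LinearMap.range_eq_bot.2 (LinearMap.ext fun x => ?_)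
      rw [(hinj r).elim x 0, map_zero, map_zero]
    rw [show r + (k + 1) + 1 = r + 1 + k + 1 by omega]
    exact ⟨(LinearEquiv.ofBijective _ hb).trans e⟩

/-- `H^p(X', M) = H⁰(X, R^p π_* M)` over an affine base, linearly. -/
theorem nonempty_HH_linearEquiv [IsAffine X] [QuasiCompact π] [QuasiSeparated π]
    (hπ : π ≫ (X ↘ Spec (CommRingCat.of A)) = X' ↘ Spec (CommRingCat.of A))
    (M : X'.Modules) (hM : Coh.IsQCoh M) :
    ∀ p, Nonempty (Coh.HH X' M p ≃ₗ[A] Coh.HH X ((Coh.Rpush π p).obj M) 0)
  | 0 => ⟨(hhZero π A hπ M).trans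
      (hhEquiv A ((Coh.push π).rightDerivedZeroIsoSelf.app M).symm 0)⟩
  | k + 1 => by
    let φ := (Coh.push π).map (cosyzSeq M k).g
    obtain ⟨e⟩ := nonempty_cokernel_iso π M k
    obtain ⟨e'⟩ := nonempty_HH_cosyz A M k 0
    have hS := pushSeq_shortExact π M k
    have hv := subsingleton_HH_push_cosyz π A M hM k
    have hB : Subsingleton (Coh.HH X (Abelian.image φ) 1) := by
      refine subsingleton_of_forall_eq 0 fun x => ?_
      obtain ⟨y, rfl⟩ : x ∈ LinearMap.range (hhMap A (pushSeq π M k).g 1) := by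
        rw [hhDelta_ker_eq_range hS 1]
        exact LinearMap.mem_ker.2 ((hv 1).elim _ _)
      rw [(subsingleton_HH_push_injective π _ (CompDerived.pres_injective (cosyz M k)) 0).elim y 0,
        map_zero]
    have hδ : Function.Surjective (hhDelta A (cosyzSeq_shortExact M k) 0) :=
      hhDelta_surjective_of_subsingleton _ 0
        (subsingleton_HH_injective _ (CompDerived.pres_injective (cosyz M k)) 0)
    let q : Coh.HH X' (cosyzSeq M k).X₃ 0 →ₗ[A] Coh.HH X (cokernel φ) 0 :=
      (hhMap A (cokernel.π φ) 0).comp (hhZero π A hπ (cosyzSeq M k).X₃).toLinearMap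
    have hq : Function.Surjective q :=
      (hhMap_surjective_of_subsingleton (A := A) (imgSeq_shortExact φ) 0 hB).comp
        (hhZero π A hπ _).surjective
    have hfac : Function.Surjective (hhMap A (pushSeq π M k).g 0) :=
      hhMap_surjective_of_subsingleton (A := A) hS 0 (hv 0)
    have hker : LinearMap.ker q = LinearMap.ker (hhDelta A (cosyzSeq_shortExact M k) 0) := by
      rw [← hhDelta_ker_eq_range (cosyzSeq_shortExact M k) 0]
      ext x
      constructor
      · intro hx
        have h1 : hhZero π A hπ _ x ∈ LinearMap.ker (hhMap A (cokernel.π φ) 0) := LinearMap.mem_ker.1 hx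
        rw [← hhMap_range_eq_ker (imgSeq_shortExact φ) 0] at h1
        obtain ⟨y, hy⟩ := h1
        obtain ⟨z, rfl⟩ := hfac y
        obtain ⟨z, rfl⟩ := (hhZero π A hπ (cosyzSeq M k).X₂).surjective z
        refine ⟨z, (hhZero π A hπ _).injective ?_⟩
        rw [← hy, ← hhMap_comp, ← hhZero_naturality π hπ]
        exact congrArg (fun t => hhMap A t 0 (hhZero π A hπ _ z)) (Abelian.image.fac φ).symm
      · rintro ⟨z, rfl⟩
        show hhMap A (cokernel.π φ) 0 (hhZero π A hπ _ (hhMap A _ 0 z)) = 0
        rw [← hhZero_naturality π hπ, ← hhMap_comp, cokernel.condition, hhMap_zero]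
    let E := ((q.quotKerEquivOfSurjective hq).symm.trans (Submodule.quotEquivOfEq _ _ hker)).trans
      ((hhDelta A (cosyzSeq_shortExact M k) 0).quotKerEquivOfSurjective hδ)
    rw [show k + 1 = 0 + k + 1 by omega] at e ⊢
    exact ⟨e'.symm.trans (E.symm.trans (hhEquiv A e 0))⟩

end Groth.Agent.CohFinite
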