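import Groth.Agent.CohFinite.Push
import Groth.Agent.Devissage.General
import Groth.Agent.QCohBase.CohRestrict
import Groth.Agent.QCohBase.Support

/-!
# Higher direct images: locality, affine maps, coherence
-/

noncomputable section

universe u

open CategoryTheory Limits AlgebraicGeometry Opposite TopologicalSpace Groth.Agent.QCohBase

namespace Groth.Agent.CohFinite

variable {X X' : Scheme.{u}} (π : X' ⟶ X)

/-- Higher direct images commute with restriction to opens of the base. -/
theorem nonempty_Rpush_restrict (V : X.Opens) (M : X'.Modules) (p : ℕ) :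
    Nonempty (((Coh.Rpush π p).obj M).restrict V.ι ≅
      (Coh.Rpush (π ∣_ V) p).obj (M.restrict (π ⁻¹ᵁ V).ι)) := by
  let W := π ⁻¹ᵁ V
  let g := π ∣_ V
  let I := injectiveResolution M
  haveI : IsIso (Functor.whiskerRight (Scheme.Modules.restrictAdjunction W.ι).unit
      (Coh.push π ⋙ Scheme.Modules.restrictFunctor V.ι)) := by
    have : ∀ N : X'.Modules, IsIso ((Functor.whiskerRight
        (Scheme.Modules.restrictAdjunction W.ι).unit
          (Coh.push π ⋙ Scheme.Modules.restrictFunctor V.ι)).app N) := by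
      intro N
      rw [Scheme.Modules.Hom.isIso_iff_isIso_app]
      intro T
      change IsIso (((Scheme.Modules.restrictAdjunction W.ι).unit.app N).app (π ⁻¹ᵁ (V.ι ''ᵁ T)))
      rw [Scheme.Modules.restrictAdjunction_unit_app_app]
      have hle : π ⁻¹ᵁ (V.ι ''ᵁ T) ≤ W := π.preimage_mono (V.ι_image_le T)
      have hT : W.ι ''ᵁ W.ι ⁻¹ᵁ (π ⁻¹ᵁ (V.ι ''ᵁ T)) = π ⁻¹ᵁ (V.ι ''ᵁ T) := by
        rw [Scheme.Hom.image_preimage_eq_opensRange_inf, Scheme.Opens.opensRange_ι]
        exact inf_eq_right.2 hle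
      haveI : IsIso (homOfLE (W.ι.image_preimage_le (π ⁻¹ᵁ (V.ι ''ᵁ T)))) :=
        ⟨eqToHom hT.symm, Subsingleton.elim _ _, Subsingleton.elim _ _⟩
      exact Functor.map_isIso N.presheaf _
    exact NatIso.isIso_of_isIso_app _
  let θ : Coh.push π ⋙ Scheme.Modules.restrictFunctor V.ι ≅
      Scheme.Modules.restrictFunctor W.ι ⋙ Coh.push g :=
    (Functor.leftUnitor _).symm ≪≫
      asIso (Functor.whiskerRight (Scheme.Modules.restrictAdjunction W.ι).unit
        (Coh.push π ⋙ Scheme.Modules.restrictFunctor V.ι)) ≪≫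
      Functor.associator _ _ _ ≪≫
      Functor.isoWhiskerLeft (Scheme.Modules.restrictFunctor W.ι)
        ((Functor.associator _ _ _).symm ≪≫
          Functor.isoWhiskerRight (Scheme.Modules.pushforwardComp W.ι π ≪≫
            Scheme.Modules.pushforwardCongr (morphismRestrict_ι π V).symm ≪≫
            (Scheme.Modules.pushforwardComp g V.ι).symm) (Scheme.Modules.restrictFunctor V.ι) ≪≫
          Functor.associator _ _ _ ≪≫
          Functor.isoWhiskerLeft (Coh.push g) (Scheme.Modules.restrictFunctorAdjCounitIso V.ι) ≪≫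
          Functor.rightUnitor _)
  haveI : (Scheme.Modules.restrictFunctor V.ι).Additive :=
    (Scheme.Modules.restrictAdjunction V.ι).left_adjoint_additive
  haveI : (Scheme.Modules.restrictFunctor W.ι).Additive :=
    (Scheme.Modules.restrictAdjunction W.ι).left_adjoint_additive
  obtain ⟨e⟩ := RPushQCoh.nonempty_homology_restrict W.ι g I p
  exact ⟨FlasqueAcyclic.mapRightDerivedIso (Coh.push π) (Scheme.Modules.restrictFunctor V.ι) I p ≪≫
    (HomologicalComplex.homologyFunctor (V : Scheme).Modules _ p).mapIso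
      ((NatIso.mapHomologicalComplex θ _).app I.cocomplex) ≪≫ e.symm⟩

/-- Quasi-coherent modules have no higher direct images along affine maps. -/
theorem isZero_Rpush_affine [IsAffineHom π] (M : X'.Modules) (hM : Coh.IsQCoh M) (k : ℕ) :
    IsZero ((Coh.Rpush π (k + 1)).obj M) := by
  obtain ⟨e⟩ := FlasqueAcyclic.nonempty_toAb_Rpush_iso π M (k + 1)
  haveI := hM
  exact RPushQCoh.isZero_of_isZero_toAb ((CompDerived.isZero_RpushAb_affine π M k).of_iso e)

/-- Higher direct images vanish over opens above which the map is affine. -/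
theorem notMem_support_Rpush (U : X.Opens) [IsAffineHom (π ∣_ U)] (M : X'.Modules)
    (hM : Coh.IsQCoh M) (k : ℕ) (x : X) (hx : x ∈ U) :
    x ∉ CohB1.support ((Coh.Rpush π (k + 1)).obj M) := by
  haveI := hM
  obtain ⟨e⟩ := nonempty_Rpush_restrict π U M (k + 1)
  have hz : IsZero (((Coh.Rpush π (k + 1)).obj M).restrict U.ι) :=
    (isZero_Rpush_affine (π ∣_ U) (M.restrict (π ⁻¹ᵁ U).ι)
      (inferInstanceAs ((Scheme.Modules.restrictFunctor (π ⁻¹ᵁ U).ι).obj M).IsQuasicoherent) k).of_iso e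
  exact not_not.2 ((subsingleton_restrict_stalk_iff U.ι _ ⟨x, hx⟩).1 (subsingleton_stalk_of_isZero hz _))

section Affine

variable {A : Type u} [CommRing A] [X.Over (Spec (CommRingCat.of A))]
  [X'.Over (Spec (CommRingCat.of A))]

/-- Cohomology upstairs for an affine map. -/
theorem finite_HH_of_affine_push [IsNoetherianRing A] [IsAffineHom π]
    (hπ : π ≫ (X ↘ Spec (CommRingCat.of A)) = X' ↘ Spec (CommRingCat.of A))
    (M : X'.Modules) (hM : Coh.IsQCoh M)
    (h : ∀ q, Module.Finite A (Coh.HH X ((Coh.push π).obj M) q)) (p : ℕ) :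
    Module.Finite A (Coh.HH X' M p) :=
  finite_HH_of_push π hπ M h (fun k => isZero_Rpush_affine π M hM k) p

omit [X'.Over (Spec (CommRingCat.of A))] in
variable (A) in
include A in
/-- Over an affine base, direct images of cosyzygies are acyclic. -/
theorem subsingleton_HH_push_cosyz [IsAffine X] [QuasiCompact π] [QuasiSeparated π] (M : X'.Modules)
    (hM : Coh.IsQCoh M) : ∀ (k n : ℕ),
    Subsingleton (Coh.HH X ((Coh.push π).obj (cosyz M k)) (n + 1))
  | 0, n =>
    haveI : Coh.IsQCoh ((Coh.push π).obj (cosyz M 0)) :=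
      haveI : M.IsQuasicoherent := hM
      QCohBase.isQuasicoherent_pushforward M π
    subsingleton_HH_of_isAffine _ n.succ_pos
  | k + 1, n => by
    let φ := (Coh.push π).map (cosyzSeq M k).g
    have hB : Subsingleton (Coh.HH X (Abelian.image φ) (n + 1)) := by
      refine subsingleton_of_forall_eq 0 fun x => ?_
      obtain ⟨y, rfl⟩ : x ∈ LinearMap.range (hhMap A (pushSeq π M k).g (n + 1)) := by
        rw [hhDelta_ker_eq_range (pushSeq_shortExact π M k) (n + 1)]
        exact LinearMap.mem_ker.2 ((subsingleton_HH_push_cosyz M hM k (n + 1)).elim _ _)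
      rw [(subsingleton_HH_push_injective π _ (CompDerived.pres_injective (cosyz M k)) n).elim y 0,
        map_zero]
    have hR : Subsingleton (Coh.HH X (cokernel φ) (n + 1)) := by
      obtain ⟨e⟩ := nonempty_cokernel_iso π M k
      haveI := RPushQCoh.isQCoh_Rpush π M hM (k + 1)
      haveI : Coh.IsQCoh (cokernel φ) := RPushQCoh.qcoh_of_iso e.symm (RPushQCoh.isQCoh_Rpush π M hM (k + 1))
      exact subsingleton_HH_of_isAffine _ n.succ_pos
    refine subsingleton_of_forall_eq 0 fun (x : Coh.HH X (imgSeq φ).X₂ (n + 1)) => ?_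
    obtain ⟨y, rfl⟩ : x ∈ LinearMap.range (hhMap A (imgSeq φ).f (n + 1)) := by
      rw [hhMap_range_eq_ker (imgSeq_shortExact φ) (n + 1)]
      exact LinearMap.mem_ker.2 (hR.elim _ _)
    rw [hB.elim y 0, map_zero]
    rfl

/-- Finite generation of global sections. -/
theorem finite_sections_of_HH0 (M : X.Modules) (h : Module.Finite A (Coh.HH X M 0)) :
    Module.Finite Γ(X, ⊤) Γ(M, ⊤) := by
  classical
  obtain ⟨s, hs⟩ := h.fg_top
  let e : Coh.HH X M 0 ≃+ Γ(M, ⊤) :=
    CategoryTheory.Sheaf.H.equiv₀ (Coh.toAb M) isTerminalTop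
  refine ⟨⟨s.image e, eq_top_iff.2 fun z _ => ?_⟩⟩
  have key : ∀ y ∈ Submodule.span A (s : Set (Coh.HH X M 0)),
      e y ∈ Submodule.span Γ(X, ⊤) (↑(s.image e) : Set Γ(M, ⊤)) := by
    intro y hy
    induction hy using Submodule.span_induction with
    | mem a ha => exact Submodule.subset_span (Finset.mem_image_of_mem _ ha)
    | zero => rw [map_zero]; exact zero_mem _
    | add a b _ _ iha ihb => rw [map_add]; exact add_mem iha ihb
    | smul r a _ iha =>
      have : e (r • a) = (show Γ(X, ⊤) from Coh.resTop X (op ⊤)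
          (Coh.toGlobal (X ↘ Spec (CommRingCat.of A)) r)) • e a :=
        (CategoryTheory.Sheaf.H.equiv₀_naturality isTerminalTop
          (Coh.smulAb M (Coh.toGlobal (X ↘ Spec (CommRingCat.of A)) r)) a).symm
      rw [this]
      exact Submodule.smul_mem _ _ iha
  rw [← e.apply_symm_apply z]
  exact key _ (hs ▸ Submodule.mem_top)

/-- Sections of higher direct images to an affine scheme. -/
theorem finite_sections_Rpush [IsNoetherianRing A] [IsAffine X] [QuasiCompact π] [QuasiSeparated π]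
    (hπ : π ≫ (X ↘ Spec (CommRingCat.of A)) = X' ↘ Spec (CommRingCat.of A))
    (M : X'.Modules) (hM : Coh.IsQCoh M) (h : ∀ q, Module.Finite A (Coh.HH X' M q)) :
    ∀ p, Module.Finite Γ(X, ⊤) Γ((Coh.Rpush π p).obj M, ⊤)
  | 0 =>
    haveI := h 0
    finite_sections_of_HH0 (A := A) _ (finite_of_iso ((Coh.push π).rightDerivedZeroIsoSelf.app M).symm 0
      (Module.Finite.equiv (hhZero π A hπ M)))
  | k + 1 => finite_sections_of_HH0 (A := A) _
      (finite_H0_Rpush π hπ M h k (subsingleton_HH_push_cosyz π A M hM k 1))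

end Affine

/-- Coherence of higher direct images, from finiteness over affine opens of the base. -/
theorem isCoh_Rpush [IsLocallyNoetherian X] [QuasiCompact π] [QuasiSeparated π] (M : X'.Modules)
    (hM : Coh.IsQCoh M) (k : ℕ)
    (h : ∀ (V : X.Opens) (hV : IsAffineOpen V) (q : ℕ),
      letI : (π ⁻¹ᵁ V).toScheme.Over (Spec (CommRingCat.of Γ(X, V))) := ⟨π ∣_ V ≫ hV.isoSpec.hom⟩
      Module.Finite Γ(X, V) (Coh.HH (π ⁻¹ᵁ V).toScheme (M.restrict (π ⁻¹ᵁ V).ι) q)) :
    Coh.IsCoh ((Coh.Rpush π k).obj M) := by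
  refine (isCoh_iff _).2 ⟨RPushQCoh.isQCoh_Rpush π M hM k, fun V hV => ?_⟩
  haveI : IsAffine V := hV
  haveI := QCohBase.isNoetherianRing_sections hV
  letI i₁ : (π ⁻¹ᵁ V).toScheme.Over (Spec (CommRingCat.of Γ(X, V))) := ⟨π ∣_ V ≫ hV.isoSpec.hom⟩
  letI i₂ : V.toScheme.Over (Spec (CommRingCat.of Γ(X, V))) := ⟨hV.isoSpec.hom⟩
  have hq : Coh.IsQCoh (M.restrict (π ⁻¹ᵁ V).ι) :=
    haveI := hM
    inferInstanceAs ((Scheme.Modules.restrictFunctor (π ⁻¹ᵁ V).ι).obj M).IsQuasicoherent
  obtain ⟨e⟩ := nonempty_Rpush_restrict π V M k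
  haveI : IsNoetherianRing (CommRingCat.of Γ(X, V)) := QCohBase.isNoetherianRing_sections hV
  haveI h1 : Module.Finite Γ(V.toScheme, ⊤)
      Γ((Coh.Rpush (π ∣_ V) k).obj (M.restrict (π ⁻¹ᵁ V).ι), ⊤) :=
    finite_sections_Rpush (A := Γ(X, V)) (π ∣_ V) rfl _ hq (h V hV) k
  have h2 : Module.Finite Γ(V.toScheme, ⊤) Γ(((Coh.Rpush π k).obj M).restrict V.ι, ⊤) :=
    Module.Finite.of_surjective (appL e.symm.hom ⊤) fun y =>
      ⟨(e.hom.app ⊤).hom y, (Devissage.comp_app_apply e.hom e.symm.hom ⊤ y).symm.trans (by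
        rw [Iso.symm_hom, Iso.hom_inv_id]; rfl)⟩
  have h3 := finite_of_restrict V.ι _ ⊤ h2
  exact V.ι_image_top ▸ h3

end Groth.Agent.CohFinite
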