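import Groth.Agent.ProjFinite.Finite
import Groth.Agent.CohFinite.AffinePush
import Groth.Agent.ChowLib.Integral
import Groth.Agent.ChowLib.BaseChange
import Groth.Prelude.Def_ClSub2

/-!
# Coherent cohomology of proper schemes is finite
-/

noncomputable section

universe u

open CategoryTheory Limits AlgebraicGeometry Opposite TopologicalSpace Groth.Agent.QCohBase CohB1
open Groth.Agent.ProjFinite Groth.Agent.Devissage

namespace Groth.Agent.CohFinite

/-- The canonical map to the direct image of the structure sheaf. -/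
def unitMap {X' Z : Scheme.{u}} (π : X' ⟶ Z) :
    Coh.structureModule Z ⟶ (Coh.push π).obj (Coh.structureModule X') :=
  SheafOfModules.unitToPushforwardObjUnit π.toRingCatSheafHom

lemma unitMap_app {X' Z : Scheme.{u}} (π : X' ⟶ Z) (W : Z.Opens) (s : Γ(Z, W)) :
    (unitMap π).app W s = π.app W s := rfl

/-- A surjection to a reduced scheme is injective on functions. -/
lemma app_injective_of_surjective {X' Z : Scheme.{u}} [IsReduced Z] (π : X' ⟶ Z) [Surjective π]
    (W : Z.Opens) : Function.Injective (π.app W) := by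
  rw [injective_iff_map_eq_zero]
  intro s hs
  rw [← basicOpen_eq_bot_iff]
  refine le_bot_iff.1 fun z hz => ?_
  obtain ⟨x, rfl⟩ := π.surjective z
  have h : x ∈ π ⁻¹ᵁ Z.basicOpen s := hz
  rw [Scheme.preimage_basicOpen] at h
  erw [hs, Scheme.basicOpen_zero] at h
  exact absurd h (by simp)

lemma app_bijective_of_isIso {X' Z : Scheme.{u}} (π : X' ⟶ Z) (U W : Z.Opens) [IsIso (π ∣_ U)]
    (h : W ≤ U) : Function.Bijective (π.app W) := by
  obtain ⟨W', rfl⟩ : ∃ W', U.ι ''ᵁ W' = W :=
    ⟨U.ι ⁻¹ᵁ W, by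
      rw [Scheme.Hom.image_preimage_eq_opensRange_inf, Scheme.Opens.opensRange_ι]
      exact inf_eq_right.2 h⟩
  have h1 : IsIso (π.app (U.ι ''ᵁ W') ≫
      X'.presheaf.map (eqToHom (image_morphismRestrict_preimage π U W')).op) :=
    morphismRestrict_app π U W' ▸ inferInstanceAs (IsIso ((π ∣_ U).app W'))
  haveI : IsIso (π.app (U.ι ''ᵁ W')) := @IsIso.of_isIso_comp_right _ _ _ _ _ _
    (X'.presheaf.map (eqToHom (image_morphismRestrict_preimage π U W')).op) inferInstance h1
  exact ConcreteCategory.bijective_of_isIso _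

/-- A map of modules which is bijective on sections inside an open has cokernel supported outside. -/
lemma notMem_support_cokernel {X : Scheme.{u}} {M N : X.Modules} (k : M ⟶ N) (U : X.Opens)
    (h : ∀ W ≤ U, Function.Bijective (k.app W)) (x : X) (hx : x ∈ U) :
    x ∉ CohB1.support (cokernel k) := by
  haveI : IsIso ((Scheme.Modules.restrictFunctor U.ι).map k) := by
    rw [Scheme.Modules.Hom.isIso_iff_isIso_app]
    intro T
    rw [ConcreteCategory.isIso_iff_bijective]
    exact h (U.ι ''ᵁ T) (U.ι_image_le T)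
  haveI : (Scheme.Modules.restrictFunctor U.ι).IsLeftAdjoint :=
    (Scheme.Modules.restrictAdjunction U.ι).isLeftAdjoint
  haveI : (Scheme.Modules.restrictFunctor U.ι).Additive :=
    (Scheme.Modules.restrictAdjunction U.ι).left_adjoint_additive
  have h0 : (Scheme.Modules.restrictFunctor U.ι).map (cokernel.π k) = 0 := by
    rw [← cancel_epi ((Scheme.Modules.restrictFunctor U.ι).map k), ← Functor.map_comp,
      cokernel.condition, comp_zero, Functor.map_zero]
  have hz : IsZero ((cokernel k).restrict U.ι) := IsZero.of_epi_eq_zero _ h0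
  exact not_not.2 ((subsingleton_restrict_stalk_iff U.ι _ ⟨x, hx⟩).1 (subsingleton_stalk_of_isZero hz _))

/-- The comparison of structure sheaves of a closed subscheme and of a modification of it. -/
lemma exists_unitMap {X' Z X : Scheme.{u}} [IsReduced Z] (π : X' ⟶ Z) [Surjective π] (i : Z ⟶ X) :
    ∃ k : (Coh.push i).obj (Coh.structureModule Z) ⟶ (Coh.push (π ≫ i)).obj (Coh.structureModule X'),
      Mono k ∧ ∀ (U : Z.Opens) [IsIso (π ∣_ U)] (W : X.Opens), i ⁻¹ᵁ W ≤ U →
        Function.Bijective (k.app W) := by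
  refine ⟨(Coh.push i).map (unitMap π) ≫ (Scheme.Modules.pushforwardComp π i).hom.app _,
    mono_of_app_injective _ fun W => ?_, fun U _ W hW => ?_⟩
  · exact app_injective_of_surjective π (i ⁻¹ᵁ W)
  · exact app_bijective_of_isIso π U (i ⁻¹ᵁ W) hW

variable {A : Type u} [CommRing A] [IsNoetherianRing A]

/-- Cohomology of an affine scheme over projective space. -/
theorem finite_HH_of_affine_proj {N : ℕ} {T : Scheme.{u}} [T.Over (Spec (CommRingCat.of A))]
    (q : T ⟶ ProjSpace N A) [IsFinite q]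
    (hq : q ≫ ProjSpace.toSpec N A = T ↘ Spec (CommRingCat.of A))
    (M : T.Modules) (hM : Coh.IsCoh M) (p : ℕ) : Module.Finite A (Coh.HH T M p) := by
  haveI := isNoetherian_projSpace (n := N) (R := A)
  haveI := LocallyOfFiniteType.isLocallyNoetherian q
  exact finite_HH_of_affine_push q hq M hM.1
    (fun r => ProjFinite.finite_HH _ (isCoh_pushforward_of_isFinite q hM) r) p

variable {X : Scheme.{u}} [X.Over (Spec (CommRingCat.of A))]

/-- The devissage step. -/
theorem finite_push_structure [AlgebraicGeometry.IsNoetherian X] {Z : Scheme.{u}} (i : Z ⟶ X)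
    [IsClosedImmersion i] [IsIntegral Z] [IsProper (i ≫ (X ↘ Spec (CommRingCat.of A)))]
    (ih : ∀ T' : Closeds X, (T' : Set X) ⊂ Set.range i → ∀ M : X.Modules, Coh.IsCoh M →
      CohB1.support M ⊆ T' → ∀ q, Module.Finite A (Coh.HH X M q)) (p : ℕ) :
    Module.Finite A (Coh.HH X ((Coh.push i).obj (Coh.structureModule Z)) p) := by
  haveI : AlgebraicGeometry.IsLocallyNoetherian Z := LocallyOfFiniteType.isLocallyNoetherian i
  obtain ⟨N, X', π, q, U, hint, hπ, hsurj, hq, hqm, hU, hiso, hlft, hcl⟩ :=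
    ChowLib.exists_chow (i ≫ (X ↘ Spec (CommRingCat.of A)))
  haveI := hint
  haveI := hπ
  haveI := hsurj
  haveI := hiso
  haveI : IsClosedImmersion q := hcl inferInstance
  let π' := π ≫ i
  letI : X'.Over (Spec (CommRingCat.of A)) := ⟨π' ≫ (X ↘ Spec (CommRingCat.of A))⟩
  haveI : IsProper π' := inferInstanceAs (IsProper (π ≫ i))
  haveI : AlgebraicGeometry.IsLocallyNoetherian X' := LocallyOfFiniteType.isLocallyNoetherian π'
  let O := Coh.structureModule X'
  have hOc : Coh.IsCoh O := isCoh_structureModule X'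
  have hX' : ∀ r, Module.Finite A (Coh.HH X' O r) :=
    finite_HH_of_affine_proj q (hq.trans (Category.assoc _ _ _).symm) O hOc
  have hRc : ∀ k, Coh.IsCoh ((Coh.Rpush π' k).obj O) := fun k => by
    refine isCoh_Rpush π' O hOc.1 k fun V hV r => ?_
    letI : (π' ⁻¹ᵁ V).toScheme.Over (Spec (CommRingCat.of Γ(X, V))) := ⟨π' ∣_ V ≫ hV.isoSpec.hom⟩
    haveI : IsNoetherianRing (CommRingCat.of Γ(X, V)) := QCohBase.isNoetherianRing_sections hV
    let f := Spec.preimage (hV.fromSpec ≫ (X ↘ Spec (CommRingCat.of A)))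
    obtain ⟨w, hw, hwm⟩ := ChowLib.exists_lift_baseChange f.hom ((π' ⁻¹ᵁ V).ι ≫ q)
      (π' ∣_ V ≫ hV.isoSpec.hom) (by
        rw [CommRingCat.ofHom_hom, Spec.map_preimage, Category.assoc]
        erw [hq]
        rw [Category.assoc, hV.isoSpec_hom_fromSpec_assoc, ← Category.assoc (π' ∣_ V),
          morphismRestrict_ι]
        simp only [π', Category.assoc])
    haveI : Mono q := hqm
    haveI : Mono w := hwm (mono_comp (π' ⁻¹ᵁ V).ι q)
    haveI : IsProper (w ≫ ProjCoord.baseMap N Γ(X, V)) := by rw [hw]; infer_instance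
    haveI : IsProper w := IsProper.of_comp w (ProjCoord.baseMap N Γ(X, V))
    haveI : IsClosedImmersion w := (IsClosedImmersion.iff_isProper_and_mono w).2 ⟨‹_›, ‹_›⟩
    haveI hwf : IsFinite w := inferInstance
    exact @finite_HH_of_affine_proj Γ(X, V) _ _ N _ _ w hwf hw _ (isCoh_restrict _ hOc) r
  -- the range of `i`
  let ξ := i (genericPoint Z)
  have hξ : ξ ∈ Set.range i := ⟨_, rfl⟩
  let U₀ : X.Opens := ⟨(Set.range i)ᶜ, i.isClosedEmbedding.isClosed_range.isOpen_compl⟩
  have hempty : π' ⁻¹ᵁ U₀ = ⊥ := le_bot_iff.1 fun x (hx : π' x ∈ U₀) => hx ⟨π x, rfl⟩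
  have hsupp : ∀ k, CohB1.support ((Coh.Rpush π' (k + 1)).obj O) ⊆ Set.range i := fun k x hx => by
    by_contra hxr
    haveI : IsEmpty (π' ⁻¹ᵁ U₀).toScheme := ⟨fun y => (hempty.le y.2)⟩
    exact notMem_support_Rpush π' U₀ O hOc.1 k x hxr hx
  obtain ⟨U', hU'⟩ : ∃ U' : X.Opens, i ⁻¹ᵁ U' = U := by
    obtain ⟨s, hs, hsU⟩ := i.isClosedEmbedding.isInducing.isOpen_iff.1 U.2
    exact ⟨⟨s, hs⟩, Opens.ext hsU⟩
  haveI : IsIso (π ∣_ i ⁻¹ᵁ U') := by rw [hU']; exact hiso
  haveI : IsAffineHom (π' ∣_ U') := by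
    rw [show π' = π ≫ i from rfl, morphismRestrict_comp]
    haveI : IsClosedImmersion (i ∣_ U') := IsZariskiLocalAtTarget.restrict ‹_› U'
    exact MorphismProperty.comp_mem _ _ _ (inferInstanceAs (IsAffineHom (π ∣_ i ⁻¹ᵁ U')))
      (inferInstanceAs (IsAffineHom (i ∣_ U')))
  have hξU : ξ ∈ U' := by
    show genericPoint Z ∈ i ⁻¹ᵁ U'
    rw [hU']
    obtain ⟨y, hy⟩ := hU
    exact (genericPoint_specializes y).mem_open U.2 hy
  have hG : ∀ r, Module.Finite A (Coh.HH X ((Coh.push π').obj O) r) :=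
    finite_HH_push_of π' rfl O hX' fun k => ih ⟨CohB1.support _, isClosed_support _ (hRc (k + 1)).2⟩
      ((hsupp k).ssubset_of_ne fun h => notMem_support_Rpush π' U' O hOc.1 k ξ hξU (h.ge hξ))
      _ (hRc (k + 1)) subset_rfl
  let G := (Coh.push π').obj O
  have hGq : G.IsQuasicoherent :=
    haveI := hOc.1
    QCohBase.isQuasicoherent_pushforward O π'
  have hGc : Coh.IsCoh G := isCoh_of_epi ((Coh.push π').rightDerivedZeroIsoSelf.app O).hom (hRc 0) hGq
  obtain ⟨k, hk, hkb⟩ := exists_unitMap π i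
  haveI := hk
  have hξC : ξ ∉ CohB1.support (cokernel k) :=
    notMem_support_cokernel k U' (fun W hW => hkb (i ⁻¹ᵁ U') W (i.preimage_mono hW)) ξ hξU
  have hsG : CohB1.support G ⊆ Set.range i := by
    intro x hx
    by_contra hxr
    obtain ⟨W, hW, hxW, hWr⟩ := Opens.isBasis_iff_nbhd.1 X.isBasis_affineOpens (U := U₀) hxr
    haveI : Subsingleton Γ(X', π' ⁻¹ᵁ W) := by
      rw [show π' ⁻¹ᵁ W = ⊥ from le_bot_iff.1 ((π'.preimage_mono hWr).trans hempty.le)]
      infer_instance
    haveI := hGc.1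
    exact hx ((subsingleton_stalk_iff G hW x hxW).2 fun s =>
      ⟨1, by rw [Scheme.basicOpen_one]; exact hxW, @Subsingleton.elim Γ(X', π' ⁻¹ᵁ W) _ _ _⟩)
  exact finite_sub k (isCoh_pushforward_of_isFinite i (isCoh_structureModule Z)) hGc
    ⟨Set.range i, i.isClosedEmbedding.isClosed_range⟩ ξ hξ hξC hsG
    (fun T' hT' => ih T' hT') hG p

/-- Coherent cohomology with proper support over a noetherian ring is finite. -/
theorem finite_HH_properSupport [LocallyOfFiniteType (X ↘ Spec (CommRingCat.of A))]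
    [QuasiCompact (X ↘ Spec (CommRingCat.of A))] {T : Set X}
    (hT : ClSub.IsProperOver (X ↘ Spec (CommRingCat.of A)) T)
    (M : X.Modules) (hM : Coh.IsCoh M) (hMs : CohB1.support M ⊆ T) (p : ℕ) :
    Module.Finite A (Coh.HH X M p) := by
  haveI := LocallyOfFiniteType.isLocallyNoetherian (X ↘ Spec (CommRingCat.of A))
  haveI : CompactSpace X := QuasiCompact.compactSpace_of_compactSpace (X ↘ Spec (CommRingCat.of A))
  haveI : AlgebraicGeometry.IsNoetherian X := { }
  obtain ⟨hcl, hprop⟩ := hT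
  haveI := hprop
  refine finite_of_integral_on ⟨T, hcl⟩ (fun Z i hi hZ hr ih => ?_) M hM hMs p
  haveI := hi
  haveI := hZ
  let ι := (Scheme.IdealSheafData.vanishingIdeal (⟨T, hcl⟩ : Closeds X)).subschemeι
  obtain ⟨l, hl⟩ := Groth.Agent.GrpSch.exists_lift_of_isImmersion ι i (by
    rw [Scheme.IdealSheafData.range_subschemeι, Scheme.IdealSheafData.coe_support_vanishingIdeal]
    exact hr)
  haveI : IsClosedImmersion (l ≫ ι) := hl ▸ hi
  haveI : IsClosedImmersion l := IsClosedImmersion.of_comp_isClosedImmersion l ι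
  haveI : IsProper (i ≫ (X ↘ Spec (CommRingCat.of A))) := by
    rw [← hl, Category.assoc]
    infer_instance
  exact finite_push_structure i ih

/-- Coherent cohomology of a proper scheme over a noetherian ring is finite. -/
theorem finite_HH_proper [IsProper (X ↘ Spec (CommRingCat.of A))] (M : X.Modules) (hM : Coh.IsCoh M) (p : ℕ) :
    Module.Finite A (Coh.HH X M p) := by
  haveI := LocallyOfFiniteType.isLocallyNoetherian (X ↘ Spec (CommRingCat.of A))
  haveI : CompactSpace X := QuasiCompact.compactSpace_of_compactSpace (X ↘ Spec (CommRingCat.of A))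
  haveI : AlgebraicGeometry.IsNoetherian X := { }
  exact finite_of_integral (fun Z i hi hZ ih => haveI := hi; haveI := hZ; finite_push_structure i ih)
    M hM p

end Groth.Agent.CohFinite
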