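import Groth.Agent.QCohBase.Exact
import Groth.Agent.QCohBase.Criterion
import Groth.Prelude.Def_Coh
import Mathlib.RingTheory.Noetherian.Basic

/-!
# Finiteness of cohomology in short exact sequences
-/

noncomputable section

universe u

open CategoryTheory Limits AlgebraicGeometry Opposite TopologicalSpace Groth.Agent.QCohBase

namespace Groth.Agent.CohFinite

variable {A : Type u} [CommRing A] {X : Scheme.{u}} [X.Over (Spec (CommRingCat.of A))]

/-- Scalars act naturally. -/
lemma smulAb_naturality {M N : X.Modules} (φ : M ⟶ N) (r : Coh.Γtop X) :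
    Coh.smulAb M r ≫ (modAb X).map φ = (modAb X).map φ ≫ Coh.smulAb N r := by
  ext U m
  exact Scheme.Modules.Hom.app_smul φ (show Γ(X, U.unop) from Coh.resTop X U r) m

variable (A) in
/-- Maps of modules act linearly on cohomology. -/
def hhMap {M N : X.Modules} (φ : M ⟶ N) (n : ℕ) : Coh.HH X M n →ₗ[A] Coh.HH X N n where
  toFun := CategoryTheory.Sheaf.H.map ((modAb X).map φ) n
  map_add' := map_add _
  map_smul' a x := by
    show CategoryTheory.Sheaf.H.map _ n (CategoryTheory.Sheaf.H.map (Coh.smulAb M _) n x) =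
      CategoryTheory.Sheaf.H.map (Coh.smulAb N _) n (CategoryTheory.Sheaf.H.map _ n x)
    rw [← CategoryTheory.Sheaf.H.map_comp_apply, ← CategoryTheory.Sheaf.H.map_comp_apply]
    exact congrArg (fun g => CategoryTheory.Sheaf.H.map g n x) (smulAb_naturality φ _)

lemma hhMap_comp {M N P : X.Modules} (φ : M ⟶ N) (ψ : N ⟶ P) (n : ℕ) (x : Coh.HH X M n) :
    hhMap A (φ ≫ ψ) n x = hhMap A ψ n (hhMap A φ n x) :=
  (congrArg (fun g => CategoryTheory.Sheaf.H.map g n x) ((modAb X).map_comp φ ψ)).trans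
    (CategoryTheory.Sheaf.H.map_comp_apply _ _ _)

lemma hhMap_zero {M N : X.Modules} (n : ℕ) (x : Coh.HH X M n) :
    hhMap A (0 : M ⟶ N) n x = 0 := by
  show CategoryTheory.Sheaf.H.map _ n x = 0
  rw [Functor.map_zero]
  change ((CategoryTheory.Sheaf.functorH _ n).map (0 : Coh.toAb M ⟶ Coh.toAb N)).hom x = 0
  rw [Functor.map_zero]
  rfl

lemma hhMap_injective_of_mono {M N : X.Modules} (φ : M ⟶ N) [Mono φ] :
    Function.Injective (hhMap A φ 0) := fun x y h => by
  apply (CategoryTheory.Sheaf.H.equiv₀ (T := ⊤) (Coh.toAb M) isTerminalTop).injective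
  refine Groth.Agent.QCohBase.app_injective_of_mono φ ⊤ ?_
  exact (CategoryTheory.Sheaf.H.equiv₀_naturality isTerminalTop ((modAb X).map φ) x).trans
    ((congrArg (CategoryTheory.Sheaf.H.equiv₀ (Coh.toAb N) isTerminalTop) h).trans
      (CategoryTheory.Sheaf.H.equiv₀_naturality isTerminalTop ((modAb X).map φ) y).symm)

variable {T : ShortComplex X.Modules}

variable (A) in
/-- The connecting map is linear. -/
def hhDelta (hT : T.ShortExact) (n : ℕ) : Coh.HH X T.X₃ n →ₗ[A] Coh.HH X T.X₁ (n + 1) where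
  toFun x := Abelian.Ext.comp x (toAb_shortExact hT).extClass rfl
  map_add' _ _ := Abelian.Ext.add_comp _ _ _ _
  map_smul' a x := by
    have hT' : (T.map (modAb X)).ShortExact := toAb_shortExact hT
    let r := Coh.toGlobal (X ↘ Spec (CommRingCat.of A)) a
    let f : T.map (modAb X) ⟶ T.map (modAb X) :=
      ShortComplex.homMk (Coh.smulAb T.X₁ r) (Coh.smulAb T.X₂ r) (Coh.smulAb T.X₃ r)
        (smulAb_naturality T.f r) (smulAb_naturality T.g r)
    show Abelian.Ext.comp (Abelian.Ext.comp x (Abelian.Ext.mk₀ f.τ₃) (add_zero n)) hT'.extClass rfl =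
      Abelian.Ext.comp (Abelian.Ext.comp x hT'.extClass rfl) (Abelian.Ext.mk₀ f.τ₁) (add_zero (n + 1))
    rw [Abelian.Ext.comp_assoc _ _ _ _ _ (by omega),
      Abelian.Ext.comp_assoc _ _ _ _ (add_zero 1) (by omega)]
    congr 1
    exact (ShortComplex.ShortExact.extClass_naturality hT' hT' f).symm

lemma hhMap_range_eq_ker (hT : T.ShortExact) (n : ℕ) :
    LinearMap.range (hhMap A T.f n) = LinearMap.ker (hhMap A T.g n) := by
  have hT' : (T.map (modAb X)).ShortExact := toAb_shortExact hT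
  refine le_antisymm ?_ fun x hx => ?_
  · rintro _ ⟨y, rfl⟩
    show CategoryTheory.Sheaf.H.map _ n (CategoryTheory.Sheaf.H.map _ n y) = 0
    rw [← CategoryTheory.Sheaf.H.map_comp_apply]
    exact (congrArg (fun g => CategoryTheory.Sheaf.H.map g n y) (T.map (modAb X)).zero).trans (map_zero_eq _)
  · obtain ⟨y, hy⟩ := Abelian.Ext.covariant_sequence_exact₂ _ hT' x (LinearMap.mem_ker.1 hx)
    exact ⟨y, hy⟩
where
  map_zero_eq {F G : AbSheaf X.toTopCat} {n : ℕ} (y : CategoryTheory.Sheaf.H F n) :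
      CategoryTheory.Sheaf.H.map (0 : F ⟶ G) n y = 0 := by
    change ((CategoryTheory.Sheaf.functorH _ n).map (0 : F ⟶ G)).hom y = 0
    rw [Functor.map_zero]
    rfl

lemma hhDelta_ker_eq_range (hT : T.ShortExact) (n : ℕ) :
    LinearMap.range (hhMap A T.g n) = LinearMap.ker (hhDelta A hT n) := by
  have hT' : (T.map (modAb X)).ShortExact := toAb_shortExact hT
  refine le_antisymm ?_ fun x hx => ?_
  · rintro _ ⟨y, rfl⟩
    show Abelian.Ext.comp (Abelian.Ext.comp y (Abelian.Ext.mk₀ _) (add_zero n)) hT'.extClass rfl = 0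
    rw [Abelian.Ext.comp_assoc_of_second_deg_zero]
    exact (congrArg (fun e => Abelian.Ext.comp y e rfl) hT'.comp_extClass).trans (Abelian.Ext.comp_zero _ _ _ _ _)
  · obtain ⟨y, hy⟩ := Abelian.Ext.covariant_sequence_exact₃ _ hT' x rfl (LinearMap.mem_ker.1 hx)
    exact ⟨y, hy⟩

lemma hhDelta_range_eq_ker (hT : T.ShortExact) (n : ℕ) :
    LinearMap.range (hhDelta A hT n) = LinearMap.ker (hhMap A T.f (n + 1)) := by
  have hT' : (T.map (modAb X)).ShortExact := toAb_shortExact hT
  refine le_antisymm ?_ fun x hx => ?_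
  · rintro _ ⟨y, rfl⟩
    show Abelian.Ext.comp (Abelian.Ext.comp y hT'.extClass rfl) (Abelian.Ext.mk₀ _) (add_zero _) = 0
    rw [Abelian.Ext.comp_assoc_of_third_deg_zero]
    exact (congrArg (fun e => Abelian.Ext.comp y e rfl) hT'.extClass_comp).trans (Abelian.Ext.comp_zero _ _ _ _ _)
  · obtain ⟨y, hy⟩ := Abelian.Ext.covariant_sequence_exact₁ _ hT' x (LinearMap.mem_ker.1 hx) rfl
    exact ⟨y, hy⟩

variable [IsNoetherianRing A]

lemma finite_middle (hT : T.ShortExact) (n : ℕ) (h₁ : Module.Finite A (Coh.HH X T.X₁ n))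
    (h₃ : Module.Finite A (Coh.HH X T.X₃ n)) : Module.Finite A (Coh.HH X T.X₂ n) := by
  haveI := isNoetherian_of_range_eq_ker (hhMap A T.f n) (hhMap A T.g n) (hhMap_range_eq_ker hT n)
  infer_instance

lemma finite_right (hT : T.ShortExact) (n : ℕ) (h₂ : Module.Finite A (Coh.HH X T.X₂ n))
    (h₁ : Module.Finite A (Coh.HH X T.X₁ (n + 1))) : Module.Finite A (Coh.HH X T.X₃ n) := by
  haveI := isNoetherian_of_range_eq_ker (hhMap A T.g n) (hhDelta A hT n) (hhDelta_ker_eq_range hT n)
  infer_instance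

lemma finite_left_zero (hT : T.ShortExact) (h₂ : Module.Finite A (Coh.HH X T.X₂ 0)) :
    Module.Finite A (Coh.HH X T.X₁ 0) := by
  haveI : IsNoetherian A (Coh.HH X T.X₂ 0) := isNoetherian_of_isNoetherianRing_of_finite A _
  haveI : Mono T.f := hT.mono_f
  exact Module.Finite.of_injective (hhMap A T.f 0) (hhMap_injective_of_mono T.f)

lemma finite_left_succ (hT : T.ShortExact) (n : ℕ) (h₃ : Module.Finite A (Coh.HH X T.X₃ n))
    (h₂ : Module.Finite A (Coh.HH X T.X₂ (n + 1))) : Module.Finite A (Coh.HH X T.X₁ (n + 1)) := by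
  haveI := isNoetherian_of_range_eq_ker (hhDelta A hT n) (hhMap A T.f (n + 1)) (hhDelta_range_eq_ker hT n)
  infer_instance

omit [IsNoetherianRing A] in
lemma finite_of_isZero {M : X.Modules} (h : IsZero M) (n : ℕ) : Module.Finite A (Coh.HH X M n) := by
  have hz : IsZero (Coh.toAb M) := Functor.map_isZero (modAb X) h
  haveI : Subsingleton (Coh.HH X M n) := subsingleton_of_forall_eq 0 fun x => by
    have : x.comp (Abelian.Ext.mk₀ (𝟙 (Coh.toAb M))) (add_zero n) = x := Abelian.Ext.comp_mk₀_id x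
    rw [← this, hz.eq_of_src (𝟙 _) 0, Abelian.Ext.mk₀_zero, Abelian.Ext.comp_zero]
  infer_instance

omit [IsNoetherianRing A] in
lemma finite_of_iso {M N : X.Modules} (e : M ≅ N) (n : ℕ) (h : Module.Finite A (Coh.HH X M n)) :
    Module.Finite A (Coh.HH X N n) := by
  refine Module.Finite.of_surjective (hhMap A e.hom n) fun y => ⟨hhMap A e.inv n y, ?_⟩
  show CategoryTheory.Sheaf.H.map _ n (CategoryTheory.Sheaf.H.map _ n y) = y
  rw [← CategoryTheory.Sheaf.H.map_comp_apply]
  exact (congrArg (fun g => CategoryTheory.Sheaf.H.map g n y) ((modAb X).mapIso e).inv_hom_id).trans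
    (CategoryTheory.Sheaf.H.map_id_apply y)

end Groth.Agent.CohFinite
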