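import Groth.Agent.CohFinite.Linear
import Groth.Agent.Devissage.Vanishing

/-!
# Finiteness of cohomology by devissage
-/

noncomputable section

universe u

open CategoryTheory Limits AlgebraicGeometry Opposite TopologicalSpace Groth.Agent.QCohBase
open Groth.Agent.Devissage

namespace Groth.Agent.CohFinite

variable {X : Scheme.{u}}

/-- The ideal of an integral closed subscheme is everything at the generic point. -/
theorem ideal_generic [AlgebraicGeometry.IsNoetherian X] {Z : Scheme.{u}} (i : Z ⟶ X)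
    [IsClosedImmersion i] [IsIntegral Z]
    (I : Z.Modules) (ι : I ⟶ Coh.structureModule Z) [Mono ι] (hI : I.IsQuasicoherent)
    (hI0 : ¬ IsZero I) :
    i (genericPoint Z) ∈ CohB1.support ((Scheme.Modules.pushforward i).obj I) ∧
      i (genericPoint Z) ∉ CohB1.support (cokernel ((Scheme.Modules.pushforward i).map ι)) ∧
      CohB1.support ((Scheme.Modules.pushforward i).obj (Coh.structureModule Z)) ⊆
        closure {i (genericPoint Z)} := by
  classical
  haveI := hI
  haveI hOq : Coh.IsQCoh (Coh.structureModule Z) := AssPts.isQuasicoherent_structureModule Z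
  let O' := (Scheme.Modules.pushforward i).obj (Coh.structureModule Z)
  let F := (Scheme.Modules.pushforward i).obj I
  haveI hF : F.IsQuasicoherent := isQuasicoherent_pushforward I i
  haveI hO' : O'.IsQuasicoherent := isQuasicoherent_pushforward _ i
  let ζ := genericPoint Z
  let ξ := i ζ
  have hgen : ∀ O : Z.Opens, (O : Set Z).Nonempty → ζ ∈ O := fun O ⟨y, hy⟩ =>
    (genericPoint_specializes y).mem_open O.2 hy
  let k : F ⟶ O' := (Scheme.Modules.pushforward i).map ι
  haveI : Mono k := (Scheme.Modules.pushforward i).map_mono ι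
  have hsub : CohB1.support O' ⊆ closure {ξ} := by
    intro x hx
    by_contra hxr
    obtain ⟨W, hW, hxW, hWr⟩ := Opens.isBasis_iff_nbhd.1 X.isBasis_affineOpens
      (U := ⟨(closure {ξ})ᶜ, isClosed_closure.isOpen_compl⟩) hxr
    have hempty : i ⁻¹ᵁ W = ⊥ := le_bot_iff.1 fun y hy => hWr hy
      (((genericPoint_specializes y).map i.continuous).mem_closure)
    haveI : Subsingleton Γ(Z, i ⁻¹ᵁ W) := by rw [hempty]; infer_instance
    exact hx ((subsingleton_stalk_iff O' hW x hxW).2 fun s =>
      ⟨1, by rw [Scheme.basicOpen_one]; exact hxW, @Subsingleton.elim Γ(Z, i ⁻¹ᵁ W) _ _ _⟩)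
  obtain ⟨U, hU, hξU, -⟩ := Opens.isBasis_iff_nbhd.1 X.isBasis_affineOpens (Opens.mem_top ξ)
  let V' : Z.Opens := i ⁻¹ᵁ U
  haveI : Nonempty (V' : Scheme.{u}) := ⟨⟨ζ, hξU⟩⟩
  haveI : Nonempty V' := ⟨⟨ζ, hξU⟩⟩
  haveI : IsDomain Γ(Z, V') := IsIntegral.component_integral V'
  letI algZ : Algebra Γ(X, U) Γ(Z, V') := (i.app U).hom.toAlgebra
  have hsurj : Function.Surjective (algebraMap Γ(X, U) Γ(Z, V')) := i.app_surjective U hU
  have hiff : ∀ r : Γ(X, U), i.app U r = 0 ↔ ξ ∉ X.basicOpen r := by
    intro r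
    constructor
    · intro h hr
      have h' : ζ ∈ i ⁻¹ᵁ X.basicOpen r := hr
      rw [Scheme.preimage_basicOpen, h, Scheme.basicOpen_zero] at h'
      exact h'
    · intro h
      rw [← basicOpen_eq_bot_iff, ← Scheme.preimage_basicOpen]
      exact le_bot_iff.1 fun y hy => absurd (hgen (i ⁻¹ᵁ X.basicOpen r) ⟨y, hy⟩) h
  let κ : Γ(F, U) →ₗ[Γ(X, U)] Γ(Z, V') :=
    { toFun := fun s => (show Γ(Z, V') from k.app U s)
      map_add' := fun a b => map_add (k.app U).hom a b
      map_smul' := fun r a => Scheme.Modules.Hom.app_smul k r a }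
  have hκ : Function.Injective κ := app_injective_of_mono k U
  obtain ⟨e, he⟩ : ∃ e : Γ(F, U), e ≠ 0 := by
    by_contra hne
    push Not at hne
    apply hI0
    obtain ⟨κ', W, hW, hWcov⟩ : ∃ (κ' : Type u) (W : κ' → Z.Opens),
        (∀ j, IsAffineOpen (W j)) ∧ ∀ z, ∃ j, z ∈ W j :=
      ⟨Z.affineOpens, fun j => j.1, fun j => j.2, fun z => by
        obtain ⟨W, hW, hzW, -⟩ := Opens.isBasis_iff_nbhd.1 Z.isBasis_affineOpens (Opens.mem_top z)
        exact ⟨⟨W, hW⟩, hzW⟩⟩
    refine isZero_of_sections W hW hWcov fun j => ⟨fun a c => ?_⟩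
    by_cases hem : ((W j : Z.Opens) : Set Z).Nonempty
    · apply app_injective_of_mono ι (W j)
      refine sub_eq_zero.1 ?_
      rw [← map_sub]
      obtain ⟨g, hg, hζg⟩ := (hU.preimage i).exists_basicOpen_le
        (V := W j ⊓ V') ⟨ζ, hgen _ hem, hξU⟩ hξU
      have hgW : Z.basicOpen g ≤ W j := hg.trans inf_le_left
      obtain ⟨n, y, hy⟩ := exists_pow_smul_eq_mres I (hU.preimage i) g rfl (Z.basicOpen_le g)
        (mres I hgW (a - c))
      have hy0 : y = 0 := hne y
      rw [hy0, map_zero] at hy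
      have hu : IsUnit (ores (Z.basicOpen_le g) g ^ n) :=
        (RingedSpace.isUnit_res_basicOpen _ g).pow _
      have h0 : mres I hgW (a - c) = 0 := hu.smul_eq_zero.1 hy.symm
      haveI : Nonempty (Z.basicOpen g : Z.Opens) := ⟨⟨ζ, hζg⟩⟩
      refine map_injective_of_isIntegral Z (homOfLE hgW) ?_
      refine (app_nat ι hgW (a - c)).trans ?_
      rw [h0, map_zero]
      exact (map_zero _).symm
    · have hb : W j = ⊥ := le_bot_iff.1 fun y hy => (hem ⟨y, hy⟩).elim
      haveI : Subsingleton Γ(Z, W j) := by rw [hb]; infer_instance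
      exact app_injective_of_mono ι (W j) (@Subsingleton.elim Γ(Z, W j) _ _ _)
  have hε : κ e ≠ 0 := fun h => he (hκ (h.trans (map_zero κ).symm))
  refine ⟨fun hS => ?_, ?_, hsub⟩
  · obtain ⟨g, hg, hge⟩ := (subsingleton_stalk_iff F hU ξ hξU).1 hS e
    have h1 := congrArg κ hge
    rw [map_smul, map_zero, Algebra.smul_def] at h1
    exact (hiff g).1 ((mul_eq_zero.1 h1).resolve_right hε) hg
  · show ¬¬ Subsingleton ((cokernel k).presheaf.stalk ξ)
    haveI hCq : (cokernel k).IsQuasicoherent := isQuasicoherent_cokernel k hF hO'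
    refine not_not.2 ((subsingleton_stalk_iff _ hU ξ hξU).2 fun c => ?_)
    obtain ⟨r, hr⟩ := hsurj (κ e)
    obtain ⟨b, rfl⟩ := app_surjective_of_epi (cokernel.π k) hO'
      (isQuasicoherent_cokernel k hF hO') hU c
    obtain ⟨r', hr'⟩ := hsurj (show Γ(Z, V') from b)
    refine ⟨r, not_not.1 (fun hn => hε (hr ▸ (hiff r).2 hn)), ?_⟩
    have h2 : r • b = k.app U (r' • e) := by
      show (algebraMap Γ(X, U) Γ(Z, V') r * (show Γ(Z, V') from b) : Γ(Z, V')) = κ (r' • e)
      rw [map_smul, Algebra.smul_def, hr, hr', mul_comm]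
    rw [← Scheme.Modules.Hom.app_smul, h2, ← comp_app_apply, cokernel.condition]
    rfl

/-- A submodule has finite cohomology when the ambient module and the quotient do, the quotient
being supported on a smaller closed set. -/
lemma finite_sub {A : Type u} [CommRing A] [IsNoetherianRing A]
    [X.Over (Spec (CommRingCat.of A))] {F O : X.Modules} (k : F ⟶ O) [Mono k]
    (hF : Coh.IsCoh F) (hO : Coh.IsCoh O) (T : Closeds X) (ξ : X)
    (hξ : ξ ∈ (T : Set X)) (hξC : ξ ∉ CohB1.support (cokernel k))
    (hsO : CohB1.support O ⊆ (T : Set X))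
    (ih : ∀ T' : Closeds X, T' < T → ∀ M : X.Modules, Coh.IsCoh M →
      CohB1.support M ⊆ T' → ∀ p, Module.Finite A (Coh.HH X M p))
    (hfin : ∀ p, Module.Finite A (Coh.HH X O p)) (p : ℕ) :
    Module.Finite A (Coh.HH X F p) := by
  let S : ShortComplex X.Modules := ShortComplex.mk k (cokernel.π k) (cokernel.condition k)
  have hS : S.ShortExact :=
    { exact := ShortComplex.exact_of_g_is_cokernel _ (cokernelIsCokernel k)
      mono_f := inferInstanceAs (Mono k)
      epi_g := inferInstanceAs (Epi (cokernel.π k)) }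
  have hCc : Coh.IsCoh (cokernel k) := isCoh_cokernel k hF.1 hO
  have hsC : CohB1.support (cokernel k) ⊆ (T : Set X) :=
    (Set.subset_union_right.trans_eq (support_of_shortExact hS hF.1 hO.1 hCc.1).symm).trans hsO
  have hC : ∀ q, Module.Finite A (Coh.HH X (cokernel k) q) :=
    ih ⟨CohB1.support (cokernel k), isClosed_support _ hCc.2⟩
      (lt_of_le_of_ne hsC fun h => hξC ((congrArg (fun D : Closeds X => (D : Set X)) h).ge hξ))
      _ hCc subset_rfl
  cases p with
  | zero => exact finite_left_zero hS (hfin 0)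
  | succ p => exact finite_left_succ hS p (hC p) (hfin (p + 1))

/-- Devissage for finiteness of modules supported in a closed set. -/
theorem finite_of_integral_on {A : Type u} [CommRing A] [IsNoetherianRing A]
    [X.Over (Spec (CommRingCat.of A))] [AlgebraicGeometry.IsNoetherian X] (T₀ : Closeds X)
    (h : ∀ (Z : Scheme.{u}) (i : Z ⟶ X), IsClosedImmersion i → IsIntegral Z → Set.range i ⊆ T₀ →
      (∀ T' : Closeds X, (T' : Set X) ⊂ Set.range i → ∀ M : X.Modules, Coh.IsCoh M →
        CohB1.support M ⊆ T' → ∀ q, Module.Finite A (Coh.HH X M q)) → ∀ p,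
      Module.Finite A (Coh.HH X ((Coh.push i).obj (Coh.structureModule Z)) p))
    (M : X.Modules) (hM : Coh.IsCoh M) (hMs : CohB1.support M ⊆ T₀) (p : ℕ) :
    Module.Finite A (Coh.HH X M p) := by
  suffices step : ∀ T : Closeds X, T ≤ T₀ → ∀ M : X.Modules, Coh.IsCoh M →
      CohB1.support M ⊆ T → ∀ p, Module.Finite A (Coh.HH X M p) from
    step T₀ le_rfl M hM hMs p
  intro T
  induction T using WellFoundedLT.induction with
  | ind T ihT =>
    intro hT₀ M hM hsupp
    obtain ⟨M', hfilt, ⟨e⟩⟩ := filt_of_isCoh hM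
    intro p
    refine finite_of_iso e p ?_
    rw [← support_eq_of_iso e] at hsupp
    clear e hM
    induction hfilt generalizing p with
    | @zero N h hN => exact finite_of_isZero h p
    | @step N N' hN ψ hψ hN' Z i hi hZ I ι hι hI hI0 he ihN =>
      obtain ⟨e⟩ := he
      let S := ShortComplex.mk ψ (cokernel.π ψ) (cokernel.condition ψ)
      have hS : S.ShortExact :=
        { exact := ShortComplex.exact_of_g_is_cokernel _ (cokernelIsCokernel ψ)
          mono_f := hψ
          epi_g := inferInstanceAs (Epi (cokernel.π ψ)) }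
      have hsu := support_of_shortExact hS hN.isCoh.1 hN'.1
        (isQuasicoherent_cokernel ψ hN.isCoh.1 hN'.1)
      rw [hsu] at hsupp
      refine finite_middle hS p (ihN (Set.subset_union_left.trans hsupp) p) (finite_of_iso e.symm p ?_)
      have hsupp3 : CohB1.support ((Scheme.Modules.pushforward i).obj I) ⊆ T := by
        rw [← support_eq_of_iso e]
        exact Set.subset_union_right.trans hsupp
      haveI hIq : I.IsQuasicoherent := hI
      haveI : AlgebraicGeometry.IsLocallyNoetherian Z := LocallyOfFiniteType.isLocallyNoetherian i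
      have hFc : Coh.IsCoh ((Scheme.Modules.pushforward i).obj I) :=
        isCoh_pushforward_of_isFinite i (isCoh_of_mono ι (isCoh_structureModule Z) hI)
      have hOc : Coh.IsCoh ((Scheme.Modules.pushforward i).obj (Coh.structureModule Z)) :=
        isCoh_pushforward_of_isFinite i (isCoh_structureModule Z)
      obtain ⟨hξ, hξC, hsO⟩ := ideal_generic i I ι hI hI0
      haveI : Mono ((Scheme.Modules.pushforward i).map ι) := (Scheme.Modules.pushforward i).map_mono ι
      have hr : Set.range i ⊆ (T : Set X) := Set.range_subset_iff.2 fun y =>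
        closure_minimal (Set.singleton_subset_iff.2 (hsupp3 hξ)) T.isClosed
          (((genericPoint_specializes y).map i.continuous).mem_closure)
      exact finite_sub ((Scheme.Modules.pushforward i).map ι) hFc hOc T _ (hsupp3 hξ) hξC
        (hsO.trans (closure_minimal (Set.singleton_subset_iff.2 (hsupp3 hξ)) T.isClosed))
        (fun T' hT' => ihT T' hT' (hT'.le.trans hT₀))
        (h Z i hi hZ (hr.trans hT₀) (fun T' hT' => ihT T' (show (T' : Set X) ⊂ (T : Set X) from hT'.trans_subset hr)
          ((hT'.subset.trans hr).trans hT₀))) p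

/-- Devissage for finiteness. -/
theorem finite_of_integral {A : Type u} [CommRing A] [IsNoetherianRing A]
    [X.Over (Spec (CommRingCat.of A))] [AlgebraicGeometry.IsNoetherian X]
    (h : ∀ (Z : Scheme.{u}) (i : Z ⟶ X), IsClosedImmersion i → IsIntegral Z →
      (∀ T' : Closeds X, (T' : Set X) ⊂ Set.range i → ∀ M : X.Modules, Coh.IsCoh M →
        CohB1.support M ⊆ T' → ∀ q, Module.Finite A (Coh.HH X M q)) → ∀ p,
      Module.Finite A (Coh.HH X ((Coh.push i).obj (Coh.structureModule Z)) p))
    (M : X.Modules) (hM : Coh.IsCoh M) (p : ℕ) : Module.Finite A (Coh.HH X M p) :=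
  finite_of_integral_on ⊤ (fun Z i hi hZ _ => h Z i hi hZ) M hM (Set.subset_univ _) p

end Groth.Agent.CohFinite
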