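import Groth.Agent.CohFinite.Proper
import Mathlib.RingTheory.Length

/-!
# Counting in long exact cohomology sequences
-/

noncomputable section

universe u

open CategoryTheory Limits AlgebraicGeometry Opposite TopologicalSpace Groth.Agent.QCohBase

namespace Groth.Agent.CohFinite

section Algebra

variable {A : Type u} [CommRing A]

/-- Natural length. -/
def lenN (A : Type u) [CommRing A] (P : Type u) [AddCommGroup P] [Module A P] : ℕ :=
  (Module.length A P).toNat

variable [IsArtinianRing A] {P Q : Type u} [AddCommGroup P] [Module A P] [AddCommGroup Q] [Module A Q]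

lemma lenN_eq_ker_add_range [Module.Finite A P] (f : P →ₗ[A] Q) :
    lenN A P = lenN A (LinearMap.ker f) + lenN A (LinearMap.range f) := by
  haveI : IsNoetherian A P := isNoetherian_of_isNoetherianRing_of_finite A P
  haveI : IsArtinian A P := isArtinian_of_fg_of_artinian'
  haveI : IsArtinian A (LinearMap.range f) := isArtinian_of_surjective _ f.rangeRestrict f.surjective_rangeRestrict
  haveI : IsNoetherian A (LinearMap.range f) := isNoetherian_of_surjective f.rangeRestrict
    (LinearMap.range_eq_top.2 f.surjective_rangeRestrict)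
  rw [lenN, lenN, lenN, Module.length_eq_add_of_exact (LinearMap.ker f).subtype f.rangeRestrict
    (Submodule.injective_subtype _) f.surjective_rangeRestrict
    (LinearMap.exact_iff.2 (by rw [LinearMap.ker_rangeRestrict, Submodule.range_subtype])),
    ENat.toNat_add Module.length_ne_top Module.length_ne_top]

omit [IsArtinianRing A] in
lemma lenN_eq_zero [Subsingleton P] : lenN A P = 0 := by
  rw [lenN, Module.length_eq_zero_iff.2 ‹_›]
  rfl

end Algebra

variable {A : Type u} [CommRing A] {X : Scheme.{u}} [X.Over (Spec (CommRingCat.of A))]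

/-- Additivity of the alternating sums of lengths. -/
theorem euler_additive [IsArtinianRing A] (T : ShortComplex X.Modules) (hT : T.ShortExact)
    [∀ i, Module.Finite A (Coh.HH X T.X₁ i)] [∀ i, Module.Finite A (Coh.HH X T.X₂ i)]
    [∀ i, Module.Finite A (Coh.HH X T.X₃ i)] (N : ℕ) (hN : Subsingleton (Coh.HH X T.X₁ (N + 1))) :
    ((Finset.range (N + 1)).sum fun i => (-1 : ℤ) ^ i * (lenN A (Coh.HH X T.X₂ i) : ℤ)) =
      ((Finset.range (N + 1)).sum fun i => (-1 : ℤ) ^ i * (lenN A (Coh.HH X T.X₁ i) : ℤ)) +
      ((Finset.range (N + 1)).sum fun i => (-1 : ℤ) ^ i * (lenN A (Coh.HH X T.X₃ i) : ℤ)) := by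
  have key : ∀ n, ((Finset.range (n + 1)).sum fun i => (-1 : ℤ) ^ i * (lenN A (Coh.HH X T.X₁ i) : ℤ)) +
      ((Finset.range (n + 1)).sum fun i => (-1 : ℤ) ^ i * (lenN A (Coh.HH X T.X₃ i) : ℤ)) -
      ((Finset.range (n + 1)).sum fun i => (-1 : ℤ) ^ i * (lenN A (Coh.HH X T.X₂ i) : ℤ)) =
      (-1 : ℤ) ^ n * (lenN A (LinearMap.range (hhDelta A hT n)) : ℤ) := by
    have e2 : ∀ i, (lenN A (Coh.HH X T.X₂ i) : ℤ) = lenN A (LinearMap.range (hhMap A T.f i)) +
        lenN A (LinearMap.range (hhMap A T.g i)) := fun i => by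
      rw [lenN_eq_ker_add_range (hhMap A T.g i), ← hhMap_range_eq_ker (A := A) hT i]
      push_cast
      rfl
    have e3 : ∀ i, (lenN A (Coh.HH X T.X₃ i) : ℤ) = lenN A (LinearMap.range (hhMap A T.g i)) +
        lenN A (LinearMap.range (hhDelta A hT i)) := fun i => by
      rw [lenN_eq_ker_add_range (hhDelta A hT i), ← hhDelta_ker_eq_range (A := A) hT i]
      push_cast
      rfl
    intro n
    induction n with
    | zero =>
      haveI := hT.mono_f
      haveI : Subsingleton (LinearMap.ker (hhMap A T.f 0)) :=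
        Submodule.subsingleton_iff_eq_bot.2 (LinearMap.ker_eq_bot.2 (hhMap_injective_of_mono (A := A) T.f))
      rw [Finset.sum_range_one, Finset.sum_range_one, Finset.sum_range_one, e2, e3,
        lenN_eq_ker_add_range (hhMap A T.f 0), lenN_eq_zero (A := A) (P := LinearMap.ker (hhMap A T.f 0))]
      push_cast
      ring
    | succ n ih =>
      rw [Finset.sum_range_succ, Finset.sum_range_succ _ (n + 1), Finset.sum_range_succ _ (n + 1),
        e2 (n + 1), e3 (n + 1), lenN_eq_ker_add_range (hhMap A T.f (n + 1)),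
        ← hhDelta_range_eq_ker (A := A) hT n]
      push_cast
      linear_combination ih
  have h := key N
  rw [lenN_eq_zero (A := A) (P := LinearMap.range (hhDelta A hT N))] at h
  push_cast at h
  linarith

/-- In an exact `P → Q → R` the middle dimension is bounded. -/
lemma finrank_le_add {k : Type u} [Field k] {P Q R : Type u} [AddCommGroup P] [Module k P] [AddCommGroup Q]
    [Module k Q] [AddCommGroup R] [Module k R] [Module.Finite k P] [Module.Finite k Q] [Module.Finite k R]
    (f : P →ₗ[k] Q) (g : Q →ₗ[k] R) (h : LinearMap.range f = LinearMap.ker g) :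
    Module.finrank k Q ≤ Module.finrank k P + Module.finrank k R := by
  have h1 := g.finrank_range_add_finrank_ker
  have h2 := f.finrank_range_add_finrank_ker
  have h3 := (LinearMap.range g).finrank_le
  rw [← h] at h1
  omega

/-- Bounds from an exact complex of coherent sheaves. -/
theorem abs_finrank_sub_le {k : Type u} [Field k] [X.Over (Spec (CommRingCat.of k))]
    [IsProper (X ↘ Spec (CommRingCat.of k))]
    (C : ℕ → X.Modules) (hC : ∀ j, Coh.IsCoh (C j)) (d : ∀ j, C j ⟶ C (j + 1))
    (hd : ∀ j, d j ≫ d (j + 1) = 0) [Mono (d 0)]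
    (hex : ∀ j, (ShortComplex.mk (d j) (d (j + 1)) (hd j)).Exact) (i : ℕ) :
    |(Module.finrank k (Coh.HH X (C 0) i) : ℤ) - (Module.finrank k (Coh.HH X (C 1) i) : ℤ)| ≤
      ((Finset.range (i + 1)).sum fun t => (Module.finrank k (Coh.HH X (C (2 + t)) (i - t)) : ℤ)) +
      ((Finset.range i).sum fun t => (Module.finrank k (Coh.HH X (C (2 + t)) (i - 1 - t)) : ℤ)) := by
  haveI := LocallyOfFiniteType.isLocallyNoetherian (X ↘ Spec (CommRingCat.of k))
  let Z : ℕ → X.Modules := fun j => kernel (d j)
  have hZ : ∀ j, Coh.IsCoh (Z j) := fun j => isCoh_kernel _ (hC j) (hC (j + 1)).1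
  haveI hfZ : ∀ j m, Module.Finite k (Coh.HH X (Z j) m) := fun j m => finite_HH_proper _ (hZ j) m
  haveI hfC : ∀ j m, Module.Finite k (Coh.HH X (C j) m) := fun j m => finite_HH_proper _ (hC j) m
  let q : ∀ j, C j ⟶ Z (j + 1) := fun j => kernel.lift _ (d j) (hd j)
  have hq : ∀ j, kernel.ι (d j) ≫ q j = 0 := fun j => by
    rw [← cancel_mono (kernel.ι (d (j + 1))), Category.assoc, kernel.lift_ι, kernel.condition, zero_comp]
  haveI : ∀ j, Epi (q j) := fun j => (ShortComplex.exact_iff_epi_kernel_lift _).1 (hex j)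
  have hS : ∀ j, (ShortComplex.mk (kernel.ι (d j)) (q j) (hq j)).ShortExact := fun j =>
    { exact := ShortComplex.exact_of_f_is_kernel _ (KernelFork.IsLimit.ofι _ _
        (fun {W} a ha => kernel.lift _ a (by
          rw [← kernel.lift_ι (d (j + 1)) (d j) (hd j)]
          exact (Category.assoc _ _ _).symm.trans ((congrArg (· ≫ kernel.ι (d (j + 1))) ha).trans zero_comp)))
        (fun a ha => kernel.lift_ι _ _ _)
        (fun a ha b hb => by rw [← cancel_mono (kernel.ι (d j)), hb, kernel.lift_ι]))
      mono_f := inferInstanceAs (Mono (kernel.ι (d j)))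
      epi_g := inferInstanceAs (Epi (q j)) }
  have hbound : ∀ m j, (Module.finrank k (Coh.HH X (Z j) m) : ℤ) ≤
      (Finset.range (m + 1)).sum fun t => (Module.finrank k (Coh.HH X (C (j + t)) (m - t)) : ℤ) := by
    intro m
    induction m with
    | zero =>
      intro j
      rw [Finset.sum_range_one]
      exact_mod_cast LinearMap.finrank_le_finrank_of_injective (hhMap_injective_of_mono (A := k) (kernel.ι (d j)))
    | succ m ih =>
      intro j
      have h := finrank_le_add (hhDelta k (hS j) m) (hhMap k (kernel.ι (d j)) (m + 1))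
        (hhDelta_range_eq_ker (hS j) m)
      rw [Finset.sum_range_succ']
      have h' := ih (j + 1)
      have e : ((Finset.range (m + 1)).sum fun t =>
          (Module.finrank k (Coh.HH X (C (j + (t + 1))) (m + 1 - (t + 1))) : ℤ)) =
          (Finset.range (m + 1)).sum fun t => (Module.finrank k (Coh.HH X (C (j + 1 + t)) (m - t)) : ℤ) :=
        Finset.sum_congr rfl fun t _ => by rw [show j + (t + 1) = j + 1 + t by omega, Nat.add_sub_add_right]
      rw [e]
      simp only [Nat.add_zero, Nat.sub_zero]
      have h'' : (Module.finrank k (Coh.HH X (Z j) (m + 1)) : ℤ) ≤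
          Module.finrank k (Coh.HH X (Z (j + 1)) m) + Module.finrank k (Coh.HH X (C j) (m + 1)) := by
        exact_mod_cast h
      linarith
  have hS' : (ShortComplex.mk (d 0) (q 1) (by
      rw [← cancel_mono (kernel.ι (d (1 + 1))), Category.assoc, kernel.lift_ι, hd 0, zero_comp])).ShortExact :=
    { exact := by
        refine ShortComplex.exact_of_f_is_kernel _ ?_
        have hk : IsLimit (KernelFork.ofι (d 0) (hd 0)) := (hex 0).fIsKernel
        exact KernelFork.IsLimit.ofι _ _
          (fun {W} a ha => hk.lift (KernelFork.ofι a (by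
            rw [← kernel.lift_ι (d (1 + 1)) (d 1) (hd 1)]
            exact (Category.assoc _ _ _).symm.trans ((congrArg (· ≫ kernel.ι (d (1 + 1))) ha).trans zero_comp))))
          (fun a ha => hk.fac _ WalkingParallelPair.zero)
          (fun {W} a ha b hb => by
            rw [← cancel_mono (d 0), hb]
            exact (hk.fac (KernelFork.ofι a (by
              rw [← kernel.lift_ι (d (1 + 1)) (d 1) (hd 1)]
              exact (Category.assoc _ _ _).symm.trans ((congrArg (· ≫ kernel.ι (d (1 + 1))) ha).trans zero_comp)))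
              WalkingParallelPair.zero).symm)
      mono_f := inferInstanceAs (Mono (d 0))
      epi_g := inferInstanceAs (Epi (q 1)) }
  have hB : (Module.finrank k (Coh.HH X (C 1) i) : ℤ) ≤
      Module.finrank k (Coh.HH X (C 0) i) + Module.finrank k (Coh.HH X (Z 2) i) := by
    exact_mod_cast finrank_le_add (hhMap k (d 0) i) (hhMap k (q 1) i) (hhMap_range_eq_ker hS' i)
  have hn1 : (0 : ℤ) ≤ (Finset.range i).sum fun t => (Module.finrank k (Coh.HH X (C (2 + t)) (i - 1 - t)) : ℤ) :=
    Finset.sum_nonneg fun t _ => by positivity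
  have hn2 : (0 : ℤ) ≤ (Finset.range (i + 1)).sum fun t => (Module.finrank k (Coh.HH X (C (2 + t)) (i - t)) : ℤ) :=
    Finset.sum_nonneg fun t _ => by positivity
  refine abs_sub_le_iff.2 ⟨?_, by linarith [hbound i 2]⟩
  cases i with
  | zero =>
    have : (Module.finrank k (Coh.HH X (C 0) 0) : ℤ) ≤ Module.finrank k (Coh.HH X (C 1) 0) := by
      exact_mod_cast LinearMap.finrank_le_finrank_of_injective (hhMap_injective_of_mono (A := k) (d 0))
    linarith
  | succ m =>
    have : (Module.finrank k (Coh.HH X (C 0) (m + 1)) : ℤ) ≤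
        Module.finrank k (Coh.HH X (Z 2) m) + Module.finrank k (Coh.HH X (C 1) (m + 1)) := by
      exact_mod_cast finrank_le_add (hhDelta k hS' m) (hhMap k (d 0) (m + 1)) (hhDelta_range_eq_ker hS' m)
    have h2 := hbound m 2
    rw [show (m + 1 - 1) = m from rfl] at *
    linarith

end Groth.Agent.CohFinite
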