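import Groth.Agent.CohFinite.Proper
import Groth.Agent.CohFinite.AffinePush
import Groth.Agent.CompDerived.Sheaves
import Groth.Agent.ProperOver.Basic

/-!
# Higher direct images of coherent modules with proper support
-/

noncomputable section

universe u

open CategoryTheory Limits AlgebraicGeometry Opposite TopologicalSpace Groth.Agent.QCohBase

namespace Groth.Agent.CohFinite

variable {X U S : Scheme.{u}}

lemma section_eq_zero_of_stalks (M : X.Modules) {T : X.Opens}
    (h : ∀ x ∈ T, Subsingleton (M.presheaf.stalk x)) (s : Γ(M, T)) : s = 0 :=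
  TopCat.Presheaf.section_ext (F := (Coh.toAb M : TopCat.Sheaf AddCommGrpCat.{u} X.toTopCat))
    T s 0 fun x hx => by
      haveI := h x hx
      exact Subsingleton.elim (α := M.presheaf.stalk x) _ _

/-- A module supported inside an open is the direct image of its restriction. -/
theorem isIso_unit_of_support (j : U ⟶ X) [IsOpenImmersion j] (M : X.Modules)
    (hcl : IsClosed (CohB1.support M)) (h : CohB1.support M ⊆ Set.range j) :
    IsIso ((Scheme.Modules.restrictAdjunction j).unit.app M) := by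
  rw [Scheme.Modules.Hom.isIso_iff_isIso_app]
  intro T
  rw [Scheme.Modules.restrictAdjunction_unit_app_app, ConcreteCategory.isIso_iff_bijective]
  let N : X.Opens := ⟨(CohB1.support M)ᶜ, hcl.isOpen_compl⟩
  let P : TopCat.Sheaf AddCommGrpCat.{u} X.toTopCat := ⟨M.presheaf, M.isSheaf⟩
  let W := j ''ᵁ j ⁻¹ᵁ T
  have hW : W ≤ T := j.image_preimage_le T
  have hcov : T ≤ W ⊔ (T ⊓ N) := fun x hx => by
    by_cases hs : x ∈ CohB1.support M
    · obtain ⟨y, rfl⟩ := h hs
      exact Or.inl ⟨y, hx, rfl⟩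
    · exact Or.inr ⟨hx, hs⟩
  have hz : ∀ (V : X.Opens), V ≤ N → ∀ s : Γ(M, V), s = 0 := fun V hV s =>
    section_eq_zero_of_stalks M (fun x hx => not_not.1 (hV hx)) s
  refine ⟨fun s t hst => TopCat.Sheaf.eq_of_locally_eq₂ P (homOfLE hW) (homOfLE inf_le_left) hcov s t hst
    ((hz _ inf_le_right _).trans (hz _ inf_le_right _).symm), fun s => ?_⟩
  let Us : Bool → X.Opens := fun b => if b then W else T ⊓ N
  let sf : ∀ b, P.1.obj (op (Us b)) := fun b => Bool.rec (motive := fun b => P.1.obj (op (Us b))) 0 s b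
  obtain ⟨t, ht, -⟩ := TopCat.Sheaf.existsUnique_gluing' P Us T
    (fun b => homOfLE (by cases b; exacts [inf_le_left, hW]))
    (hcov.trans (sup_le (le_iSup Us true) (le_iSup Us false))) sf (by
      intro b c
      cases b <;> cases c
      · rfl
      · exact (hz _ (inf_le_left.trans inf_le_right) _).trans (hz _ (inf_le_left.trans inf_le_right) _).symm
      · exact (hz _ (inf_le_right.trans inf_le_right) _).trans (hz _ (inf_le_right.trans inf_le_right) _).symm
      · rfl)
  exact ⟨t, ht true⟩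

/-- Such a restriction has no higher direct images. -/
theorem isZero_Rpush_restrict_of_support (j : U ⟶ X) [IsOpenImmersion j] (M : X.Modules) (hM : Coh.IsQCoh M)
    (hcl : IsClosed (CohB1.support M)) (h : CohB1.support M ⊆ Set.range j) (k : ℕ) :
    IsZero ((Coh.Rpush j (k + 1)).obj (M.restrict j)) := by
  haveI := hM
  have hq : Coh.IsQCoh (M.restrict j) :=
    inferInstanceAs ((Scheme.Modules.restrictFunctor j).obj M).IsQuasicoherent
  refine QCohBase.isZero_of_stalks fun x => ?_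
  by_cases hx : x ∈ Set.range j
  · haveI : IsIso (j ∣_ j.opensRange) := by
      haveI : Epi (j ∣_ j.opensRange).base := (TopCat.epi_iff_surjective _).2 fun y => by
        obtain ⟨z, hz⟩ := y.2
        refine ⟨⟨z, ⟨z, rfl⟩⟩, Subtype.ext ?_⟩
        simpa using hz
      exact IsOpenImmersion.isIso _
    exact not_not.1 (notMem_support_Rpush j j.opensRange (M.restrict j) hq k x hx)
  · let N : X.Opens := ⟨(CohB1.support M)ᶜ, hcl.isOpen_compl⟩
    have hxN : x ∈ N := fun hs => hx (h hs)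
    obtain ⟨e⟩ := nonempty_Rpush_restrict j N (M.restrict j) (k + 1)
    have hz : IsZero ((M.restrict j).restrict (j ⁻¹ᵁ N).ι) := QCohBase.isZero_of_stalks fun y =>
      (subsingleton_restrict_stalk_iff (j ⁻¹ᵁ N).ι _ y).2 ((subsingleton_restrict_stalk_iff j M y.1).2
        (not_not.1 (show j y.1 ∉ CohB1.support M from y.2)))
    exact (subsingleton_restrict_stalk_iff N.ι _ ⟨x, hxN⟩).1
      (subsingleton_stalk_of_isZero (((Coh.Rpush (j ∣_ N) (k + 1)).map_isZero hz).of_iso e) _)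

/-- Higher direct images of a module supported in an open. -/
theorem nonempty_Rpush_of_support (j : U ⟶ X) [IsOpenImmersion j] (f : X ⟶ S) (M : X.Modules)
    (hM : Coh.IsQCoh M) (hcl : IsClosed (CohB1.support M)) (h : CohB1.support M ⊆ Set.range j) (p : ℕ) :
    Nonempty ((Coh.Rpush f p).obj M ≅ (Coh.Rpush (j ≫ f) p).obj (M.restrict j)) := by
  haveI := isIso_unit_of_support j M hcl h
  let e : M ≅ (Coh.push j).obj (M.restrict j) := asIso ((Scheme.Modules.restrictAdjunction j).unit.app M)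
  obtain ⟨e'⟩ := CompDerived.nonempty_comp_iso_of_acyclic (Coh.push j) (Coh.push f)
    (fun J hJ n => by
      haveI : TopCat.Sheaf.IsFlasque (X := X.toTopCat) (Coh.toAb ((Coh.push j).obj J)) :=
        { epi := fun {V W} i =>
            haveI := @FlasqueAcyclic.isFlasque_toAb U J hJ
            TopCat.Presheaf.IsFlasque.epi (F := (Coh.toAb J).obj) ((Opens.map j.base).op.map i) }
      obtain ⟨e₀⟩ := FlasqueAcyclic.nonempty_toAb_Rpush_iso f ((Coh.push j).obj J) (n + 1)
      exact RPushQCoh.isZero_of_isZero_toAb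
        ((FlasqueAcyclic.isZero_rightDerived_push_of_isFlasque f.base _ n).of_iso e₀))
    p (M.restrict j) (fun i => isZero_Rpush_restrict_of_support j M hM hcl h i)
  let θ : Coh.push j ⋙ Coh.push f ≅ Coh.push (j ≫ f) := Scheme.Modules.pushforwardComp j f
  let ε : (Coh.push j ⋙ Coh.push f).rightDerived p ≅ (Coh.push (j ≫ f)).rightDerived p :=
    ⟨NatTrans.rightDerived θ.hom p, NatTrans.rightDerived θ.inv p,
      by rw [← NatTrans.rightDerived_comp, θ.hom_inv_id, NatTrans.rightDerived_id],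
      by rw [← NatTrans.rightDerived_comp, θ.inv_hom_id, NatTrans.rightDerived_id]⟩
  exact ⟨(Coh.Rpush f p).mapIso e ≪≫ e' ≪≫ ε.app (M.restrict j)⟩

lemma exists_isCompact_open_between {E : Set X} (hE : IsCompact E) (O : X.Opens) (hO : E ⊆ O) :
    ∃ V : X.Opens, IsCompact (V : Set X) ∧ E ⊆ V ∧ V ≤ O := by
  choose V hV hxV hVO using fun x : E => Opens.isBasis_iff_nbhd.1 X.isBasis_affineOpens (hO x.2)
  obtain ⟨t, ht⟩ := hE.elim_finite_subcover (fun x : E => (V x : Set X)) (fun x => (V x).2)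
    (fun x hx => Set.mem_iUnion.2 ⟨⟨x, hx⟩, hxV ⟨x, hx⟩⟩)
  refine ⟨⟨⋃ x ∈ t, (V x : Set X), isOpen_biUnion fun x _ => (V x).2⟩,
    t.finite_toSet.isCompact_biUnion fun x _ => IsAffineOpen.isCompact (hV x), ht, ?_⟩
  exact Set.iUnion₂_subset fun x _ => hVO x

/-- Proper supports restrict. -/
theorem isProperOver_resLE (f : X ⟶ S) [LocallyOfFiniteType f] {T : Set X} (hT : ClSub.IsProperOver f T)
    (V : S.Opens) (W : X.Opens) (hW : W ≤ f ⁻¹ᵁ V) (hTW : T ∩ (f ⁻¹ᵁ V : Set X) ⊆ W) :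
    ClSub.IsProperOver (f.resLE V W hW) (W.ι ⁻¹' T) := by
  obtain ⟨hc, hp⟩ := hT
  let c := (Scheme.IdealSheafData.vanishingIdeal (⟨T, hc⟩ : Closeds X)).subschemeι
  have hrc : Set.range c = T := by
    rw [Scheme.IdealSheafData.range_subschemeι, Scheme.IdealSheafData.coe_support_vanishingIdeal]
    rfl
  haveI : IsProper (c ≫ f) := hp
  let cV := c ∣_ (f ⁻¹ᵁ V)
  have hr : Set.range cV ⊆ Set.range (X.homOfLE hW) := by
    rintro _ ⟨z, rfl⟩
    have hz : (cV z).1 ∈ W := hTW ⟨by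
      rw [show (cV z).1 = c z.1 by
        rw [← Scheme.Opens.ι_apply, ← Scheme.Hom.comp_apply, morphismRestrict_ι]; rfl]
      exact hrc.le ⟨z.1, rfl⟩, (cV z).2⟩
    exact ⟨⟨(cV z).1, hz⟩, Subtype.ext (by simp)⟩
  let l := IsOpenImmersion.lift (X.homOfLE hW) cV hr
  have hl : l ≫ X.homOfLE hW = cV := IsOpenImmersion.lift_fac _ _ _
  haveI : IsClosedImmersion (l ≫ X.homOfLE hW) := hl ▸ inferInstanceAs (IsClosedImmersion (c ∣_ (f ⁻¹ᵁ V)))
  haveI : IsClosedImmersion l := IsClosedImmersion.of_comp l (X.homOfLE hW)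
  refine (ProperOver.isProperOver_iff (f.resLE V W hW) l ?_).2 ?_
  · ext w
    refine ⟨?_, fun hw => ?_⟩
    · rintro ⟨z, rfl⟩
      have e : W.ι (l z) = c z.1 := by
        rw [← Scheme.Hom.comp_apply, ← X.homOfLE_ι hW, ← Category.assoc, hl, morphismRestrict_ι]
        rfl
      show W.ι (l z) ∈ T
      rw [e]
      exact hrc.le ⟨z.1, rfl⟩
    · obtain ⟨z, hz⟩ := hrc.ge hw
      have hzV : z ∈ c ⁻¹ᵁ (f ⁻¹ᵁ V) := by
        show c z ∈ f ⁻¹ᵁ V
        rw [hz]
        exact hW w.2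
      refine ⟨⟨z, hzV⟩, W.ι.isOpenEmbedding.injective ?_⟩
      have e : W.ι (l ⟨z, hzV⟩) = c z := by
        rw [← Scheme.Hom.comp_apply, ← X.homOfLE_ι hW, ← Category.assoc, hl, morphismRestrict_ι]
        rfl
      exact e.trans hz
  · have : IsProper ((c ≫ f) ∣_ V) := inferInstance
    rw [morphismRestrict_comp] at this
    rw [Scheme.Hom.resLE, ← Category.assoc, hl]
    exact this

/-- Higher direct images of coherent modules with proper support are coherent. -/
theorem isCoh_Rpush_properSupport (f : X ⟶ S) [LocallyOfFiniteType f] [IsLocallyNoetherian S]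
    (M : X.Modules) (hM : Coh.IsCoh M) (hs : ClSub.IsProperOver f (CohB1.support M)) (p : ℕ) :
    Coh.IsCoh ((Coh.Rpush f p).obj M) := by
  haveI := LocallyOfFiniteType.isLocallyNoetherian f
  have key : ∀ V : S.Opens, IsAffineOpen V → Coh.IsCoh (((Coh.Rpush f p).obj M).restrict V.ι) := by
    intro V hV
    haveI : IsAffine V := hV
    let M' := M.restrict (f ⁻¹ᵁ V).ι
    have hM' : Coh.IsCoh M' := QCohBase.isCoh_restrict _ hM
    obtain ⟨e₁⟩ := nonempty_Rpush_restrict f V M p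
    obtain ⟨hc, hp⟩ := hs
    -- a quasi-compact open containing the support over `V`
    have hK : IsCompact (CohB1.support M ∩ (f ⁻¹ᵁ V : Set X)) := by
      let c := (Scheme.IdealSheafData.vanishingIdeal (⟨_, hc⟩ : Closeds X)).subschemeι
      haveI : IsProper (c ≫ f) := hp
      have h1 : IsCompact ((c ≫ f) ⁻¹' (V : Set S)) := QuasiCompact.isCompact_preimage _ V.2 hV.isCompact
      have h2 := h1.image c.continuous
      rwa [show c '' ((c ≫ f) ⁻¹' (V : Set S)) = CohB1.support M ∩ (f ⁻¹ᵁ V : Set X) by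
        rw [show ((c ≫ f) ⁻¹' (V : Set S)) = c ⁻¹' (f ⁻¹ᵁ V : Set X) from rfl, Set.image_preimage_eq_range_inter,
          Scheme.IdealSheafData.range_subschemeι, Scheme.IdealSheafData.coe_support_vanishingIdeal]
        rfl] at h2
    obtain ⟨W, hWq, hKW, hW⟩ : ∃ W : X.Opens, IsCompact (W : Set X) ∧
        CohB1.support M ∩ (f ⁻¹ᵁ V : Set X) ⊆ W ∧ W ≤ f ⁻¹ᵁ V := by
      obtain ⟨W, hWm, hKW, hW⟩ := exists_isCompact_open_between hK (f ⁻¹ᵁ V) Set.inter_subset_right
      exact ⟨W, hWm, hKW, hW⟩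
    let j := X.homOfLE hW
    have hcl' : IsClosed (CohB1.support M') := QCohBase.isClosed_support M' hM'.2
    have hsupp : CohB1.support M' ⊆ Set.range j := fun x hx =>
      ⟨⟨x.1, hKW ⟨(not_iff_not.2 (subsingleton_restrict_stalk_iff (f ⁻¹ᵁ V).ι M x)).1 hx, x.2⟩⟩,
        Subtype.ext (by simp [j])⟩
    obtain ⟨e₂⟩ := nonempty_Rpush_of_support j (f ∣_ V) M' hM'.1 hcl' hsupp p
    haveI : CompactSpace W := isCompact_iff_compactSpace.1 hWq
    haveI : QuasiCompact (j ≫ f ∣_ V) := quasiCompact_of_compactSpace _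
    haveI : IsLocallyNoetherian W := inferInstance
    have hN : Coh.IsCoh (M'.restrict j) := QCohBase.isCoh_restrict _ hM'
    have hWs : ClSub.IsProperOver (j ≫ f ∣_ V) (CohB1.support (M'.restrict j)) := by
      refine ProperOver.isProperOver_mono _ (isProperOver_resLE f ⟨hc, hp⟩ V W hW hKW) (fun x hx => ?_)
        (QCohBase.isClosed_support _ hN.2)
      have h1 := (not_iff_not.2 (subsingleton_restrict_stalk_iff j M' x)).1 hx
      have h2 := (not_iff_not.2 (subsingleton_restrict_stalk_iff (f ⁻¹ᵁ V).ι M (j x))).1 h1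
      have hj : (j x).1 = x.1 := by simp [j]
      rw [show (f ⁻¹ᵁ V).ι (j x) = x.1 from hj] at h2
      exact h2
    have hR : Coh.IsCoh ((Coh.Rpush (j ≫ f ∣_ V) p).obj (M'.restrict j)) := by
      refine isCoh_Rpush _ _ hN.1 p fun V' hV' q => ?_
      let g := j ≫ f ∣_ V
      letI : (g ⁻¹ᵁ V').toScheme.Over (Spec (CommRingCat.of Γ(V, V'))) := ⟨g ∣_ V' ≫ hV'.isoSpec.hom⟩
      haveI hNV : IsNoetherianRing Γ(V, V') := QCohBase.isNoetherianRing_sections (X := V.toScheme) hV'
      haveI : IsNoetherianRing (CommRingCat.of Γ(V, V')) := hNV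
      haveI : LocallyOfFiniteType ((g ⁻¹ᵁ V').toScheme ↘ Spec (CommRingCat.of Γ(V, V'))) :=
        inferInstanceAs (LocallyOfFiniteType (g ∣_ V' ≫ hV'.isoSpec.hom))
      haveI : QuasiCompact ((g ⁻¹ᵁ V').toScheme ↘ Spec (CommRingCat.of Γ(V, V'))) :=
        inferInstanceAs (QuasiCompact (g ∣_ V' ≫ hV'.isoSpec.hom))
      refine finite_HH_properSupport (A := Γ(V, V'))
        (T := (g ⁻¹ᵁ V').ι ⁻¹' CohB1.support (M'.restrict j)) ?_ _ (QCohBase.isCoh_restrict _ hN)
        (fun x hx => (not_iff_not.2 (subsingleton_restrict_stalk_iff (g ⁻¹ᵁ V').ι _ x)).1 hx) q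
      have h0 := isProperOver_resLE g hWs V' (g ⁻¹ᵁ V') le_rfl Set.inter_subset_right
      obtain ⟨hc₁, hp₁⟩ := h0
      refine ⟨hc₁, ?_⟩
      show IsProper (_ ≫ g ∣_ V' ≫ hV'.isoSpec.hom)
      rw [Scheme.Hom.resLE, Scheme.homOfLE_rfl, Category.id_comp] at hp₁
      rw [← Category.assoc]
      haveI := hp₁
      infer_instance
    exact QCohBase.isCoh_of_epi (e₁ ≪≫ e₂).inv hR (RPushQCoh.qcoh_of_iso (e₁ ≪≫ e₂).symm hR.1)
  refine (isCoh_iff _).2 ⟨isQuasicoherent_of_cover (fun V : S.affineOpens => V.1)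
    (fun x => by
      obtain ⟨V, hV, hxV, -⟩ := Opens.isBasis_iff_nbhd.1 S.isBasis_affineOpens (Opens.mem_top x)
      exact ⟨⟨V, hV⟩, hxV⟩) (fun V => (key V.1 V.2).1), fun V hV => ?_⟩
  have h2 : Module.Finite Γ(V.toScheme, ⊤) Γ(((Coh.Rpush f p).obj M).restrict V.ι, ⊤) :=
    haveI : IsAffine V := hV
    isFiniteType_toFinite (key V hV) (isAffineOpen_top _)
  exact V.ι_image_top ▸ finite_of_restrict V.ι _ ⊤ h2

end Groth.Agent.CohFinite
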