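import Groth.Agent.CohFinite.Linear
import Groth.Agent.CompDerived.Sheaves

/-!
# Finiteness of cohomology and direct images
-/

noncomputable section

universe u

open CategoryTheory Limits AlgebraicGeometry Opposite TopologicalSpace Groth.Agent.QCohBase

namespace Groth.Agent.CohFinite

variable {X X' : Scheme.{u}} (π : X' ⟶ X)

instance (Y : Scheme.{u}) : EnoughInjectives Y.Modules :=
  inferInstanceAs (EnoughInjectives (SheafOfModules.{u} Y.ringCatSheaf))

instance preservesFiniteLimits_push : PreservesFiniteLimits (Coh.push π) :=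
  have : PreservesLimitsOfSize.{0, 0} (Coh.push π) :=
    (Scheme.Modules.pullbackPushforwardAdjunction π).rightAdjoint_preservesLimits
  PreservesLimits.preservesFiniteLimits _

/-- Iterated cosyzygies. -/
def cosyz (M : X'.Modules) : ℕ → X'.Modules
  | 0 => M
  | k + 1 => (CompDerived.pres (cosyz M k)).X₃

/-- The sequence defining a cosyzygy. -/
abbrev cosyzSeq (M : X'.Modules) (k : ℕ) : ShortComplex X'.Modules := CompDerived.pres (cosyz M k)

lemma cosyzSeq_shortExact (M : X'.Modules) (k : ℕ) : (cosyzSeq M k).ShortExact :=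
  CompDerived.pres_shortExact _

/-- Higher direct images of cosyzygies. -/
theorem nonempty_Rpush_cosyz (M : X'.Modules) : ∀ (k q : ℕ),
    Nonempty ((Coh.Rpush π (q + 1)).obj (cosyz M k) ≅ (Coh.Rpush π (q + k + 1)).obj M)
  | 0, q => ⟨Iso.refl _⟩
  | k + 1, q => by
    obtain ⟨e⟩ := CompDerived.nonempty_shiftIso (Coh.push π) (cosyzSeq_shortExact M k)
      (CompDerived.pres_acyclic (Coh.push π) (cosyz M k)) q
    obtain ⟨e'⟩ := nonempty_Rpush_cosyz M k (q + 1)
    refine ⟨e ≪≫ e' ≪≫ eqToIso ?_⟩
    rw [show q + 1 + k + 1 = q + (k + 1) + 1 by omega]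

/-- The cokernel of the direct image of a cosyzygy sequence is a higher direct image. -/
theorem nonempty_cokernel_iso (M : X'.Modules) (k : ℕ) :
    Nonempty (cokernel ((Coh.push π).map (cosyzSeq M k).g) ≅ (Coh.Rpush π (k + 1)).obj M) := by
  obtain ⟨e⟩ := CompDerived.nonempty_cokernelIso (Coh.push π) (cosyzSeq_shortExact M k)
    (CompDerived.pres_acyclic (Coh.push π) (cosyz M k))
  obtain ⟨e'⟩ := nonempty_Rpush_cosyz π M k 0
  exact ⟨e ≪≫ e' ≪≫ eqToIso (by rw [show 0 + k + 1 = k + 1 by omega])⟩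

lemma subsingleton_HH_injective (J : X'.Modules) (hJ : Injective J) (n : ℕ) :
    Subsingleton (Coh.HH X' J (n + 1)) :=
  haveI := @FlasqueAcyclic.isFlasque_toAb X' J hJ
  FlasqueAcyclic.subsingleton_H_of_isFlasque (Coh.toAb J) n

lemma subsingleton_HH_push_injective (J : X'.Modules) (hJ : Injective J) (n : ℕ) :
    Subsingleton (Coh.HH X ((Coh.push π).obj J) (n + 1)) :=
  haveI : TopCat.Sheaf.IsFlasque (X := X.toTopCat) (Coh.toAb ((Coh.push π).obj J)) :=
    { epi := fun {U V} i =>
        haveI := @FlasqueAcyclic.isFlasque_toAb X' J hJ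
        TopCat.Presheaf.IsFlasque.epi (F := (Coh.toAb J).obj) ((Opens.map π.base).op.map i) }
  FlasqueAcyclic.subsingleton_H_of_isFlasque (Coh.toAb ((Coh.push π).obj J)) n

/-- The image sequences. -/
abbrev imgSeq {M N : X.Modules} (φ : M ⟶ N) : ShortComplex X.Modules :=
  ShortComplex.mk (Abelian.image.ι φ) (cokernel.π φ) (kernel.condition _)

lemma imgSeq_shortExact {M N : X.Modules} (φ : M ⟶ N) : (imgSeq φ).ShortExact :=
  { exact := ShortComplex.exact_of_f_is_kernel _ (kernelIsKernel _)
    mono_f := inferInstanceAs (Mono (Abelian.image.ι φ))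
    epi_g := inferInstanceAs (Epi (cokernel.π φ)) }

lemma map_f_map_g (M : X'.Modules) (k : ℕ) :
    (Coh.push π).map (cosyzSeq M k).f ≫
      Abelian.factorThruImage ((Coh.push π).map (cosyzSeq M k).g) = 0 := by
  rw [← cancel_mono (Abelian.image.ι ((Coh.push π).map (cosyzSeq M k).g)), Category.assoc,
    Abelian.image.fac, ← Functor.map_comp, (cosyzSeq M k).zero, Functor.map_zero, zero_comp]

/-- The direct image of a cosyzygy sequence onto its image. -/
abbrev pushSeq (M : X'.Modules) (k : ℕ) : ShortComplex X.Modules :=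
  ShortComplex.mk ((Coh.push π).map (cosyzSeq M k).f)
    (Abelian.factorThruImage ((Coh.push π).map (cosyzSeq M k).g)) (map_f_map_g π M k)

lemma pushSeq_shortExact (M : X'.Modules) (k : ℕ) : (pushSeq π M k).ShortExact := by
  haveI := (cosyzSeq_shortExact M k).mono_f
  let hK := KernelFork.mapIsLimit _ (cosyzSeq_shortExact M k).fIsKernel (Coh.push π)
  exact
    { exact := ShortComplex.exact_of_f_is_kernel _ (KernelFork.IsLimit.ofι _ _
        (fun {W} a ha => hK.lift (KernelFork.ofι a (by
          rw [← Abelian.image.fac ((Coh.push π).map (cosyzSeq M k).g), ← Category.assoc, ha, zero_comp])))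
        (fun a ha => hK.fac _ WalkingParallelPair.zero)
        (fun a ha b hb => by
          rw [← cancel_mono ((Coh.push π).map (cosyzSeq M k).f)]
          exact hb.trans (hK.fac (KernelFork.ofι a _) WalkingParallelPair.zero).symm))
      mono_f := inferInstanceAs (Mono ((Coh.push π).map (cosyzSeq M k).f))
      epi_g := inferInstanceAs (Epi (Abelian.factorThruImage ((Coh.push π).map (cosyzSeq M k).g))) }

variable {A : Type u} [CommRing A] [X.Over (Spec (CommRingCat.of A))]
  [X'.Over (Spec (CommRingCat.of A))]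

variable (A) in
/-- `H⁰` of a direct image. -/
def hhZero (hπ : π ≫ (X ↘ Spec (CommRingCat.of A)) = X' ↘ Spec (CommRingCat.of A)) (N : X'.Modules) :
    Coh.HH X' N 0 ≃ₗ[A] Coh.HH X ((Coh.push π).obj N) 0 :=
  let e : Coh.HH X' N 0 ≃+ Coh.HH X ((Coh.push π).obj N) 0 :=
    (CategoryTheory.Sheaf.H.equiv₀ (Coh.toAb N) isTerminalTop).trans
      (CategoryTheory.Sheaf.H.equiv₀ (Coh.toAb ((Coh.push π).obj N)) isTerminalTop).symm
  { e with
    map_smul' := fun a x => by
      show (CategoryTheory.Sheaf.H.equiv₀ (Coh.toAb ((Coh.push π).obj N)) isTerminalTop).symm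
          (CategoryTheory.Sheaf.H.equiv₀ (Coh.toAb N) isTerminalTop (CategoryTheory.Sheaf.H.map
            (Coh.smulAb N (Coh.toGlobal (X' ↘ Spec (CommRingCat.of A)) a)) 0 x)) =
        CategoryTheory.Sheaf.H.map
          (Coh.smulAb ((Coh.push π).obj N) (Coh.toGlobal (X ↘ Spec (CommRingCat.of A)) a)) 0
          ((CategoryTheory.Sheaf.H.equiv₀ (Coh.toAb ((Coh.push π).obj N)) isTerminalTop).symm
            (CategoryTheory.Sheaf.H.equiv₀ (Coh.toAb N) isTerminalTop x))
      rw [CategoryTheory.Sheaf.H.equiv₀_symm_naturality, ← CategoryTheory.Sheaf.H.equiv₀_naturality]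
      refine congrArg _ ?_
      set y := CategoryTheory.Sheaf.H.equiv₀ (Coh.toAb N) isTerminalTop x
      have hkey : Coh.toGlobal (X' ↘ Spec (CommRingCat.of A)) a =
          π.appTop (Coh.toGlobal (X ↘ Spec (CommRingCat.of A)) a) := by rw [← hπ]; rfl
      rw [hkey]
      show @HSMul.hSMul Γ(X', π ⁻¹ᵁ ⊤) Γ(N, π ⁻¹ᵁ ⊤) Γ(N, π ⁻¹ᵁ ⊤) _
          ((X'.presheaf.map (homOfLE le_top).op).hom
            (π.appTop (Coh.toGlobal (X ↘ Spec (CommRingCat.of A)) a))) y =
        @HSMul.hSMul Γ(X', π ⁻¹ᵁ ⊤) Γ(N, π ⁻¹ᵁ ⊤) Γ(N, π ⁻¹ᵁ ⊤) _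
          (π.app ⊤ ((X.presheaf.map (homOfLE le_top).op).hom
            (Coh.toGlobal (X ↘ Spec (CommRingCat.of A)) a))) y
      have e1 : ∀ (Y : Scheme.{u}) (t : Γ(Y, ⊤)),
          (Y.presheaf.map (homOfLE (le_top : (⊤ : Y.Opens) ≤ ⊤)).op).hom t = t := fun Y t => by
        rw [show (homOfLE (le_top : (⊤ : Y.Opens) ≤ ⊤)).op = 𝟙 _ from rfl, Y.presheaf.map_id]
        rfl
      exact congrArg (fun r : Γ(X', π ⁻¹ᵁ ⊤) =>
          @HSMul.hSMul Γ(X', π ⁻¹ᵁ ⊤) Γ(N, π ⁻¹ᵁ ⊤) Γ(N, π ⁻¹ᵁ ⊤) _ r y)
        ((e1 X' _).trans (congrArg (π.app ⊤) (e1 X _)).symm)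
      }

lemma hhZero_naturality (hπ : π ≫ (X ↘ Spec (CommRingCat.of A)) = X' ↘ Spec (CommRingCat.of A))
    {M N : X'.Modules} (φ : M ⟶ N) (x : Coh.HH X' M 0) :
    hhMap A ((Coh.push π).map φ) 0 (hhZero π A hπ M x) = hhZero π A hπ N (hhMap A φ 0 x) := by
  show CategoryTheory.Sheaf.H.map _ 0
      ((CategoryTheory.Sheaf.H.equiv₀ (Coh.toAb ((Coh.push π).obj M)) isTerminalTop).symm
        (CategoryTheory.Sheaf.H.equiv₀ (Coh.toAb M) isTerminalTop x)) =
    (CategoryTheory.Sheaf.H.equiv₀ (Coh.toAb ((Coh.push π).obj N)) isTerminalTop).symm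
      (CategoryTheory.Sheaf.H.equiv₀ (Coh.toAb N) isTerminalTop
        (CategoryTheory.Sheaf.H.map ((modAb X').map φ) 0 x))
  rw [CategoryTheory.Sheaf.H.equiv₀_symm_naturality]
  refine congrArg _ ?_
  exact (CategoryTheory.Sheaf.H.equiv₀_naturality isTerminalTop ((modAb X').map φ) x)

omit [X'.Over (Spec (CommRingCat.of A))] in
lemma hhMap_surjective_of_subsingleton {T : ShortComplex X.Modules} (hT : T.ShortExact) (n : ℕ)
    (h : Subsingleton (Coh.HH X T.X₁ (n + 1))) : Function.Surjective (hhMap A T.g n) := by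
  intro y
  have : y ∈ LinearMap.range (hhMap A T.g n) := by
    rw [hhDelta_ker_eq_range hT n]
    exact LinearMap.mem_ker.2 (h.elim _ _)
  exact this

omit [X'.Over (Spec (CommRingCat.of A))] in
lemma hhDelta_surjective_of_subsingleton {T : ShortComplex X.Modules} (hT : T.ShortExact) (n : ℕ)
    (h : Subsingleton (Coh.HH X T.X₂ (n + 1))) : Function.Surjective (hhDelta A hT n) := by
  intro y
  have : y ∈ LinearMap.range (hhDelta A hT n) := by
    rw [hhDelta_range_eq_ker hT n]
    exact LinearMap.mem_ker.2 (h.elim _ _)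
  exact this

/-- A linear map out of a module is finite when its kernel contains that of a map to a finite one. -/
lemma finite_of_ker_le {P Q Q' : Type*} [AddCommGroup P] [Module A P] [AddCommGroup Q] [Module A Q]
    [AddCommGroup Q'] [Module A Q'] [IsNoetherianRing A] [Module.Finite A Q']
    (φ : P →ₗ[A] Q) (ψ : P →ₗ[A] Q') (hφ : Function.Surjective φ)
    (h : LinearMap.ker ψ ≤ LinearMap.ker φ) : Module.Finite A Q := by
  haveI : IsNoetherian A Q' := isNoetherian_of_isNoetherianRing_of_finite A Q'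
  haveI : Module.Finite A (P ⧸ LinearMap.ker ψ) :=
    Module.Finite.equiv (ψ.quotKerEquivRange).symm
  refine Module.Finite.of_surjective ((LinearMap.ker ψ).liftQ φ h) fun y => ?_
  obtain ⟨x, rfl⟩ := hφ y
  exact ⟨Submodule.Quotient.mk x, rfl⟩

variable [IsNoetherianRing A]

/-- The cohomology of the cosyzygies. -/
lemma finite_cosyz (M : X'.Modules) (h : ∀ q, Module.Finite A (Coh.HH X' M q)) :
    ∀ (k r : ℕ), Module.Finite A (Coh.HH X' (cosyz M k) (r + 1))
  | 0, r => h (r + 1)
  | k + 1, r => finite_right (cosyzSeq_shortExact M k) (r + 1)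
      (haveI := subsingleton_HH_injective _ (CompDerived.pres_injective (cosyz M k)) r
       inferInstanceAs (Module.Finite A (Coh.HH X' (cosyzSeq M k).X₂ (r + 1))))
      (finite_cosyz M h k (r + 1))

/-- Cohomology of a direct image. -/
theorem finite_HH_push_of (hπ : π ≫ (X ↘ Spec (CommRingCat.of A)) = X' ↘ Spec (CommRingCat.of A))
    (M : X'.Modules) (h : ∀ q, Module.Finite A (Coh.HH X' M q))
    (hR : ∀ k q, Module.Finite A (Coh.HH X ((Coh.Rpush π (k + 1)).obj M) q)) (p : ℕ) :
    Module.Finite A (Coh.HH X ((Coh.push π).obj M) p) := by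
  cases p with
  | zero => haveI := h 0; exact Module.Finite.equiv (hhZero π A hπ M)
  | succ p =>
    suffices key : ∀ r k, Module.Finite A (Coh.HH X ((Coh.push π).obj (cosyz M k)) (r + 1)) from
      key p 0
    intro r
    induction r with
    | zero =>
      intro k
      let φ := (Coh.push π).map (cosyzSeq M k).g
      have hS := pushSeq_shortExact π M k
      haveI : Module.Finite A (Coh.HH X' (cosyzSeq M k).X₁ (0 + 1)) := finite_cosyz M h k 0
      refine finite_of_ker_le (hhDelta A hS 0)
        ((hhDelta A (cosyzSeq_shortExact M k) 0).comp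
          ((hhZero π A hπ _).symm.toLinearMap.comp (hhMap A (Abelian.image.ι φ) 0)))
        (hhDelta_surjective_of_subsingleton hS 0
          (subsingleton_HH_push_injective π _ (CompDerived.pres_injective _) 0)) fun b hb => ?_
      have hb' : (hhZero π A hπ _).symm (hhMap A (Abelian.image.ι φ) 0 b) ∈
          LinearMap.range (hhMap A (cosyzSeq M k).g 0) := by
        rw [hhDelta_ker_eq_range (cosyzSeq_shortExact M k) 0]
        exact hb
      obtain ⟨j, hj⟩ := hb'
      refine (hhDelta_ker_eq_range (A := A) hS 0).le ?_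
      refine ⟨hhZero π A hπ _ j, ?_⟩
      have hinj : Function.Injective (hhMap A (Abelian.image.ι φ) 0) := hhMap_injective_of_mono _
      apply hinj
      refine Eq.trans ?_ (((hhZero π A hπ _).eq_symm_apply).1 hj)
      rw [← hhMap_comp, Abelian.image.fac]
      exact hhZero_naturality π hπ _ j
    | succ r ih =>
      intro k
      have hS := pushSeq_shortExact π M k
      refine finite_left_succ hS (r + 1) ?_ ?_
      · refine finite_left_succ (imgSeq_shortExact ((Coh.push π).map (cosyzSeq M k).g)) r ?_ (ih (k + 1))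
        obtain ⟨e⟩ := nonempty_cokernel_iso π M k
        exact finite_of_iso e.symm r (hR k r)
      · haveI := subsingleton_HH_push_injective π _ (CompDerived.pres_injective (cosyz M k)) (r + 1)
        exact inferInstanceAs (Module.Finite A (Coh.HH X (pushSeq π M k).X₂ (r + 1 + 1)))

/-- Global sections of higher direct images. -/
theorem finite_H0_Rpush (hπ : π ≫ (X ↘ Spec (CommRingCat.of A)) = X' ↘ Spec (CommRingCat.of A))
    (M : X'.Modules) (h : ∀ q, Module.Finite A (Coh.HH X' M q)) (k : ℕ)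
    (hv : Subsingleton (Coh.HH X ((Coh.push π).obj (cosyz M k)) 2)) :
    Module.Finite A (Coh.HH X ((Coh.Rpush π (k + 1)).obj M) 0) := by
  let φ := (Coh.push π).map (cosyzSeq M k).g
  obtain ⟨e⟩ := nonempty_cokernel_iso π M k
  refine finite_of_iso e 0 ?_
  have hS := pushSeq_shortExact π M k
  have hB : Subsingleton (Coh.HH X (Abelian.image φ) 1) := by
    refine subsingleton_of_forall_eq 0 fun x => ?_
    obtain ⟨y, rfl⟩ : x ∈ LinearMap.range (hhMap A (pushSeq π M k).g 1) := by
      rw [hhDelta_ker_eq_range hS 1]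
      exact LinearMap.mem_ker.2 (hv.elim _ _)
    rw [(subsingleton_HH_push_injective π _ (CompDerived.pres_injective (cosyz M k)) 0).elim y 0,
      map_zero]
  haveI : Module.Finite A (Coh.HH X' (cosyzSeq M k).X₁ (0 + 1)) := finite_cosyz M h k 0
  refine finite_of_ker_le
    ((hhMap A (cokernel.π φ) 0).comp (hhZero π A hπ (cosyzSeq M k).X₃).toLinearMap)
    (hhDelta A (cosyzSeq_shortExact M k) 0)
    ((hhMap_surjective_of_subsingleton (A := A) (imgSeq_shortExact φ) 0 hB).comp
      (hhZero π A hπ _).surjective) fun x hx => ?_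
  rw [← hhDelta_ker_eq_range (cosyzSeq_shortExact M k) 0] at hx
  obtain ⟨j, rfl⟩ := hx
  show hhMap A (cokernel.π φ) 0 (hhZero π A hπ _ (hhMap A _ 0 j)) = 0
  rw [← hhZero_naturality, ← hhMap_comp, cokernel.condition, hhMap_zero]

/-- Cohomology upstairs from that of an acyclic direct image. -/
theorem finite_HH_of_push (hπ : π ≫ (X ↘ Spec (CommRingCat.of A)) = X' ↘ Spec (CommRingCat.of A))
    (M : X'.Modules) (h : ∀ q, Module.Finite A (Coh.HH X ((Coh.push π).obj M) q))
    (hR : ∀ k, IsZero ((Coh.Rpush π (k + 1)).obj M)) (p : ℕ) :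
    Module.Finite A (Coh.HH X' M p) := by
  have hepi : ∀ k, ((cosyzSeq M k).map (Coh.push π)).ShortExact := fun k => by
    obtain ⟨e⟩ := nonempty_Rpush_cosyz π M k 0
    refine CompDerived.shortExact_map (Coh.push π) (cosyzSeq_shortExact M k) ((hR k).of_iso (e ≪≫ eqToIso ?_))
    rw [show 0 + k + 1 = k + 1 by omega]
  have hpush : ∀ k r, Module.Finite A (Coh.HH X ((Coh.push π).obj (cosyz M k)) (r + 1)) := by
    intro k
    induction k with
    | zero => exact fun r => h (r + 1)
    | succ k ih =>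
      exact fun r => finite_right (hepi k) (r + 1)
        (haveI := subsingleton_HH_push_injective π _ (CompDerived.pres_injective (cosyz M k)) r
         inferInstanceAs (Module.Finite A (Coh.HH X ((Coh.push π).obj (cosyzSeq M k).X₂) (r + 1))))
        (ih (r + 1))
  cases p with
  | zero => haveI := h 0; exact Module.Finite.equiv (hhZero π A hπ M).symm
  | succ p =>
    suffices key : ∀ r k, Module.Finite A (Coh.HH X' (cosyz M k) (r + 1)) from key p 0
    intro r
    induction r with
    | zero =>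
      intro k
      haveI : Module.Finite A (Coh.HH X ((cosyzSeq M k).map (Coh.push π)).X₁ (0 + 1)) := hpush k 0
      refine finite_of_ker_le
        ((hhDelta A (cosyzSeq_shortExact M k) 0).comp (hhZero π A hπ _).symm.toLinearMap)
        (hhDelta A (hepi k) 0)
        ((hhDelta_surjective_of_subsingleton (A := A) (cosyzSeq_shortExact M k) 0
          (subsingleton_HH_injective _ (CompDerived.pres_injective _) 0)).comp
            (hhZero π A hπ _).symm.surjective) fun x hx => ?_
      obtain ⟨y, rfl⟩ := (hhDelta_ker_eq_range (A := A) (hepi k) 0).ge hx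
      obtain ⟨j, rfl⟩ := (hhZero π A hπ _).surjective y
      show hhDelta A (cosyzSeq_shortExact M k) 0 ((hhZero π A hπ _).symm (hhMap A ((Coh.push π).map (cosyzSeq M k).g) 0 (hhZero π A hπ _ j))) = 0
      rw [hhZero_naturality, LinearEquiv.symm_apply_apply, ← LinearMap.mem_ker, ← hhDelta_ker_eq_range]
      exact ⟨j, rfl⟩
    | succ r ih =>
      intro k
      exact finite_left_succ (cosyzSeq_shortExact M k) (r + 1) (ih (k + 1))
        (haveI := subsingleton_HH_injective _ (CompDerived.pres_injective (cosyz M k)) (r + 1)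
         inferInstanceAs (Module.Finite A (Coh.HH X' (cosyzSeq M k).X₂ (r + 1 + 1))))

end Groth.Agent.CohFinite
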