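import Groth.Agent.Devissage.Vanishing
import Groth.Agent.CohFinite.ProperSupport
import Groth.Agent.TopDimLib.Basic

/-!
# Grothendieck vanishing for quasi-coherent modules on separated Noetherian schemes
-/

noncomputable section

universe u

open CategoryTheory Limits AlgebraicGeometry Opposite TopologicalSpace Groth.Agent.QCohBase

namespace Groth.Agent.CohFinite

/-- The boundary of the part of a closed set in an open has smaller dimension. -/
theorem dim_boundary_lt {X : Type*} [TopologicalSpace X] [NoetherianSpace X] {Z : Set X}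
    (hZ : IsClosed Z) {U : Set X} (hU : IsOpen U) {p : ℕ}
    (h : topologicalKrullDim Z < ((p + 1 : ℕ) : WithBot ℕ∞)) :
    topologicalKrullDim ↥(closure (Z ∩ U) \ U) < ((p : ℕ) : WithBot ℕ∞) := by
  set W := closure (Z ∩ U) \ U with hW
  have hWc : IsClosed W := isClosed_closure.sdiff hU
  have hkey : ∀ q : LTSeries (IrreducibleCloseds W), q.length + 1 < p + 1 := by
    intro q
    let f : IrreducibleCloseds W → IrreducibleCloseds X := fun T =>
      ⟨Subtype.val '' (T : Set W), T.isIrreducible.image _ continuous_subtype_val.continuousOn,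
        hWc.isClosedEmbedding_subtypeVal.isClosedMap _ T.isClosed⟩
    have hf : StrictMono f := fun S T hST => by
      show (Subtype.val '' (S : Set W)) ⊂ Subtype.val '' (T : Set W)
      exact Subtype.val_injective.image_strictMono hST
    let q' := q.map f hf
    have hlast : (q'.last : Set X) ⊆ W := by
      rw [LTSeries.last_map]
      rintro _ ⟨w, -, rfl⟩
      exact w.2
    obtain ⟨S, hSfin, hSirr, hS⟩ := NoetherianSpace.exists_finite_set_closeds_irreducible
      (⟨closure (Z ∩ U), isClosed_closure⟩ : Closeds X)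
    haveI := hSfin.to_subtype
    have hcov : closure (Z ∩ U) = ⋃ C : S, (C.1 : Set X) := by
      have := congrArg (fun D : Closeds X => (D : Set X)) hS
      simp only [Closeds.coe_mk] at this
      rw [this]
      haveI := hSfin.fintype
      rw [show sSup S = S.toFinset.sup id by rw [Finset.sup_id_eq_sSup, Set.coe_toFinset]]
      rw [Closeds.coe_finset_sup]
      ext x
      simp
    have hlast' : (q'.last : Set X) ⊆ ⋃ C : S, closure ((Z ∩ U) ∩ (C.1 : Set X)) := by
      rw [← closure_iUnion_of_finite, ← Set.inter_iUnion, ← hcov, Set.inter_eq_left.2 subset_closure]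
      exact hlast.trans Set.sdiff_subset
    obtain ⟨C, hC⟩ := TopDimLib.exists_subset_of_subset_iUnion (fun C : S => isClosed_closure)
      q'.last.isIrreducible hlast'
    obtain ⟨x, hxS, hxC⟩ : ((Z ∩ U) ∩ (C.1 : Set X)).Nonempty := by
      by_contra hne
      rw [Set.not_nonempty_iff_eq_empty.1 hne, closure_empty] at hC
      exact q'.last.isIrreducible.nonempty.ne_empty (Set.subset_empty_iff.1 hC)
    let D : IrreducibleCloseds X := ⟨(C.1 : Set X), hSirr _ C.2, C.1.isClosed⟩
    have hlt : q'.last < D := by
      refine lt_of_le_not_ge (hC.trans ((closure_mono Set.inter_subset_right).trans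
        C.1.isClosed.closure_subset)) fun hge => ?_
      exact (hlast (hge hxC)).2 hxS.2
    have hDZ : ((q'.snoc D hlt).last : Set X) ⊆ Z := by
      rw [RelSeries.last_snoc]
      exact (((hcov.symm ▸ Set.subset_iUnion (fun C : S => (C.1 : Set X)) C) :
        (C.1 : Set X) ⊆ closure (Z ∩ U))).trans (closure_minimal Set.inter_subset_left hZ)
    have h1 := (TopDimLib.length_le_of_last_subset _ hDZ).trans_lt h
    exact Nat.cast_lt.1 h1
  cases p with
  | zero =>
    haveI : IsEmpty (IrreducibleCloseds W) := ⟨fun T => absurd (hkey (RelSeries.singleton _ T)) (by simp)⟩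
    rw [show topologicalKrullDim W = ⊥ from Order.krullDim_eq_bot]
    exact WithBot.bot_lt_coe _
  | succ n =>
    refine lt_of_le_of_lt (b := ((n : ℕ) : WithBot ℕ∞)) ?_ (by exact_mod_cast Nat.lt_succ_self n)
    refine iSup_le fun q => ?_
    have := hkey q
    exact_mod_cast (show q.length ≤ n by omega)

variable {X : Scheme.{u}}

/-- Comparison of a module with the direct image of its restriction to an affine open. -/
theorem exists_affine_comparison [X.IsSeparated] (M : X.Modules) (hM : Coh.IsQCoh M) (U : X.Opens)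
    (hU : IsAffineOpen U) :
    ∃ (J : X.Modules) (η : M ⟶ J), J.IsQuasicoherent ∧
      (∀ V : X.Opens, V ≤ U → Function.Bijective (η.app V)) ∧
      CohB1.support J ⊆ closure (CohB1.support M ∩ U) ∧ ∀ n, Subsingleton (Coh.HH X J (n + 1)) := by
  haveI : IsAffine U.toScheme := hU
  haveI : IsSeparated (terminal.from X) := ‹X.IsSeparated›.1
  haveI : IsAffineHom (U.ι ≫ terminal.from X) := isAffineHom_of_isAffine _
  haveI : IsAffineHom U.ι := IsAffineHom.of_comp _ (terminal.from X)
  haveI : M.IsQuasicoherent := hM
  haveI : (M.restrict U.ι).IsQuasicoherent := inferInstance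
  haveI : Coh.IsQCoh (M.restrict U.ι) := inferInstanceAs ((M.restrict U.ι).IsQuasicoherent)
  let J := (Scheme.Modules.pushforward U.ι).obj (M.restrict U.ι)
  let η : M ⟶ J := (Scheme.Modules.restrictAdjunction U.ι).unit.app M
  have hJ : J.IsQuasicoherent := isQuasicoherent_pushforward _ U.ι
  have hbij : ∀ V : X.Opens, V ≤ U → Function.Bijective (η.app V) := by
    intro V hV
    have e : U.ι ''ᵁ (U.ι ⁻¹ᵁ V) = V := by
      rw [Scheme.Hom.image_preimage_eq_opensRange_inf, Scheme.Opens.opensRange_ι, inf_eq_right.2 hV]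
    haveI : IsIso (homOfLE (U.ι.image_preimage_le V)).op :=
      ⟨⟨(homOfLE e.ge).op, Subsingleton.elim _ _, Subsingleton.elim _ _⟩⟩
    exact ConcreteCategory.bijective_of_isIso (M.presheaf.map (homOfLE (U.ι.image_preimage_le V)).op)
  have hsJ : CohB1.support J ⊆ closure (CohB1.support M ∩ U) := by
    intro x hx
    by_contra hxc
    refine hx (subsingleton_of_forall_eq 0 fun g => ?_)
    obtain ⟨V, hxV, s, rfl⟩ := J.presheaf.exists_germ_eq g
    let W : X.Opens := ⟨(closure (CohB1.support M ∩ U))ᶜ, isClosed_closure.isOpen_compl⟩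
    have h0 : mres J (inf_le_left : V ⊓ W ≤ V) s = 0 := by
      refine section_eq_zero_of_stalks M (T := U.ι ''ᵁ (U.ι ⁻¹ᵁ (V ⊓ W))) (fun z hz => ?_) _
      obtain ⟨w, hw, rfl⟩ := hz
      by_contra hns
      exact hw.2 (subset_closure ⟨hns, w.2⟩)
    rw [← TopCat.Presheaf.germ_res_apply J.presheaf (homOfLE (inf_le_left : V ⊓ W ≤ V)) x ⟨hxV, hxc⟩ s]
    exact (congrArg (J.presheaf.germ _ x _).hom h0).trans (map_zero _)
  exact ⟨J, η, hJ, hbij, hsJ, fun n => Devissage.subsingleton_HH_push U.ι (M.restrict U.ι) n.succ_pos⟩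

/-- A quasi-coherent module supported in a closed set has no cohomology beyond its dimension. -/
theorem subsingleton_HH_of_support [X.IsSeparated] [IsNoetherian X] :
    ∀ (Z : Closeds X) (M : X.Modules), Coh.IsQCoh M → CohB1.support M ⊆ Z →
      ∀ p : ℕ, topologicalKrullDim (Z : Set X) < p → Subsingleton (Coh.HH X M p) := by
  intro Z
  induction Z using WellFoundedLT.induction with
  | ind Z ih =>
    intro M hM hsupp p hp
    rcases (Z : Set X).eq_empty_or_nonempty with hZ | ⟨x₀, hx₀⟩
    · refine Devissage.subsingleton_HH_of_isZero ?_ p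
      refine QCohBase.isZero_of_sections (fun U : X.affineOpens => U.1) (fun U => U.2) (fun x => ?_) fun U => ?_
      · obtain ⟨U, hU, hxU, -⟩ := exists_isAffineOpen_mem_and_subset (U := ⊤) (x := x) trivial
        exact ⟨⟨U, hU⟩, hxU⟩
      · refine subsingleton_of_forall_eq 0 fun s => section_eq_zero_of_stalks M (fun x _ => ?_) s
        by_contra hx
        have := hsupp (show x ∈ CohB1.support M from hx)
        rw [hZ] at this
        exact this
    obtain ⟨U, hU, hx₀U, -⟩ := exists_isAffineOpen_mem_and_subset (U := ⊤) (x := x₀) trivial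
    obtain ⟨J, η, hJ, hbij, hsJ₀, hJv⟩ := exists_affine_comparison M hM U hU
    have hsJ : CohB1.support J ⊆ closure ((Z : Set X) ∩ U) :=
      hsJ₀.trans (closure_mono (Set.inter_subset_inter_left _ hsupp))
    haveI : M.IsQuasicoherent := hM
    let K := kernel η
    let C := cokernel η
    let I := Abelian.image η
    have hKq : K.IsQuasicoherent := isQuasicoherent_kernel η hM hJ
    have hCq : C.IsQuasicoherent := isQuasicoherent_cokernel η hM hJ
    have hIq : I.IsQuasicoherent := isQuasicoherent_kernel _ hJ hCq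
    let T₁ := ShortComplex.mk (kernel.ι η) (Abelian.factorThruImage η)
      (by rw [← cancel_mono (Abelian.image.ι η), Category.assoc, Abelian.image.fac, kernel.condition, zero_comp])
    have hT₁ : T₁.ShortExact :=
      { exact := ShortComplex.exact_of_f_is_kernel _ (KernelFork.IsLimit.ofι _ _
          (fun {W} a ha => kernel.lift η a (by rw [← Abelian.image.fac η, ← Category.assoc, ha, zero_comp]))
          (fun a ha => kernel.lift_ι _ _ _)
          (fun a ha b hb => by rw [← cancel_mono (kernel.ι η), kernel.lift_ι]; exact hb))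
        mono_f := inferInstanceAs (Mono (kernel.ι η))
        epi_g := inferInstanceAs (Epi (Abelian.factorThruImage η)) }
    let T₂ := ShortComplex.mk (Abelian.image.ι η) (cokernel.π η) (kernel.condition _)
    have hT₂ : T₂.ShortExact :=
      { exact := ShortComplex.exact_of_f_is_kernel _ (kernelIsKernel _)
        mono_f := inferInstanceAs (Mono (kernel.ι (cokernel.π η)))
        epi_g := inferInstanceAs (Epi (cokernel.π η)) }
    have hsK : CohB1.support K ⊆ CohB1.support M := by
      rw [show CohB1.support M = CohB1.support K ∪ CohB1.support I from support_of_shortExact hT₁ hKq hM hIq]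
      exact Set.subset_union_left
    have hsC : CohB1.support C ⊆ CohB1.support J := by
      rw [show CohB1.support J = CohB1.support I ∪ CohB1.support C from support_of_shortExact hT₂ hIq hJ hCq]
      exact Set.subset_union_right
    have hKU : ∀ x ∈ CohB1.support K, x ∉ U := fun x hx hxU => hx (subsingleton_of_forall_eq 0 fun g => by
      obtain ⟨V, hxV, s, rfl⟩ := K.presheaf.exists_germ_eq g
      have h0 : mres K (inf_le_left : V ⊓ U ≤ V) s = 0 := by
        apply app_injective_of_mono (kernel.ι η) (V ⊓ U)
        apply (hbij (V ⊓ U) inf_le_right).1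
        rw [map_zero, map_zero, ← ConcreteCategory.comp_apply, ← Scheme.Modules.Hom.comp_app, kernel.condition]
        rfl
      rw [← TopCat.Presheaf.germ_res_apply K.presheaf (homOfLE (inf_le_left : V ⊓ U ≤ V)) x ⟨hxV, hxU⟩ s]
      exact (congrArg (K.presheaf.germ _ x _).hom h0).trans (map_zero _))
    have hCU : ∀ x ∈ CohB1.support C, x ∉ U := fun x hx hxU => hx (subsingleton_of_forall_eq 0 fun g => by
      obtain ⟨V, hxV, s, rfl⟩ := C.presheaf.exists_germ_eq g
      obtain ⟨A, hA, hxA, hAV⟩ := exists_isAffineOpen_mem_and_subset (U := V ⊓ U) (x := x) ⟨hxV, hxU⟩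
      have hAV' : A ≤ V := fun z hz => (hAV hz).1
      have h0 : mres C hAV' s = 0 := by
        obtain ⟨b, hb⟩ := app_surjective_of_epi (cokernel.π η) hJ hCq hA (mres C hAV' s)
        obtain ⟨a, ha⟩ := (hbij A fun z hz => (hAV hz).2).2 b
        rw [← hb, ← ha, ← ConcreteCategory.comp_apply, ← Scheme.Modules.Hom.comp_app, cokernel.condition]
        rfl
      rw [← TopCat.Presheaf.germ_res_apply C.presheaf (homOfLE hAV') x hxA s]
      exact (congrArg (C.presheaf.germ _ x _).hom h0).trans (map_zero _))
    let ZK : Closeds X := ⟨(Z : Set X) \ U, Z.isClosed.sdiff U.2⟩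
    let ZC : Closeds X := ⟨closure ((Z : Set X) ∩ U) \ U, isClosed_closure.sdiff U.2⟩
    have hZK : ZK < Z := lt_of_le_not_ge (show (Z : Set X) \ U ⊆ Z from Set.sdiff_subset)
      fun hge => (show x₀ ∈ (Z : Set X) \ U from hge hx₀).2 hx₀U
    have hZC : ZC < Z := lt_of_le_not_ge
      (show closure ((Z : Set X) ∩ U) \ U ⊆ Z from
        Set.sdiff_subset.trans (closure_minimal Set.inter_subset_left Z.isClosed))
      fun hge => (show x₀ ∈ closure ((Z : Set X) ∩ U) \ U from hge hx₀).2 hx₀U
    have hK : Subsingleton (Coh.HH X K p) :=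
      ih ZK hZK K hKq (fun x hx => ⟨hsupp (hsK hx), hKU x hx⟩) p
        (lt_of_le_of_lt (TopDimLib.dim_subtype_mono Set.sdiff_subset) hp)
    refine Devissage.subsingleton_HH_middle hT₁ p hK ?_
    cases p with
    | zero =>
      exfalso
      haveI : Nonempty (IrreducibleCloseds (Z : Set X)) :=
        ⟨⟨closure {(⟨x₀, hx₀⟩ : (Z : Set X))}, isIrreducible_singleton.closure, isClosed_closure⟩⟩
      exact absurd hp (not_lt.2 Order.krullDim_nonneg)
    | succ n =>
      have hC : Subsingleton (Coh.HH X C n) :=
        ih ZC hZC C hCq (fun x hx => ⟨hsJ (hsC hx), hCU x hx⟩) n (dim_boundary_lt Z.isClosed U.2 hp)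
      have hJv : Subsingleton (Coh.HH X J (n + 1)) := hJv n
      refine subsingleton_of_forall_eq 0 fun a => ?_
      have hT' : (T₂.map (modAb X)).ShortExact := toAb_shortExact hT₂
      obtain ⟨y, hy⟩ := Abelian.Ext.covariant_sequence_exact₁ _ hT' a
        (@Subsingleton.elim (Coh.HH X J (n + 1)) hJv _ _) rfl
      rw [← hy, show y = 0 from hC.elim y 0]
      exact Abelian.Ext.zero_comp _ _ _ _ _

/-- Grothendieck vanishing for quasi-coherent modules on a separated Noetherian scheme. -/
theorem subsingleton_HH_of_dim_lt [X.IsSeparated] [IsNoetherian X] (M : X.Modules) (hM : Coh.IsQCoh M)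
    (p : ℕ) (hp : topologicalKrullDim X < p) : Subsingleton (Coh.HH X M p) :=
  subsingleton_HH_of_support ⊤ M hM (Set.subset_univ _) p
    (lt_of_le_of_lt (topologicalKrullDim_subspace_le X _) hp)

end Groth.Agent.CohFinite
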